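import Cfsg.Agent.Lib.LocalEven.OnePointFront.Data
import Cfsg.Agent.Lib.LocalEven.TIEndgame.Main

/-!
# Commuting members at each point: Theorem T applies
-/

set_option autoImplicit false
set_option linter.style.haveILetI false

namespace CfsgLib.LocalEven.OnePointFront

open MulAction CfsgLib.LocalEven.TIEndgame

universe u v

variable {G : Type u} {Ω : Type v} [Group G] [MulAction G Ω] {D : Set G}

namespace ClosedSetting

/-- Two commuting members at a point multiply to `1` or to a member at that point. -/
theorem mul_mem_dat [Finite G] (h : ClosedSetting D Ω) {a : Ω} {d e : G} (hd : d ∈ dat D a)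
    (he : e ∈ dat D a) (hc : Commute d e) : d * e = 1 ∨ d * e ∈ dat D a := by
  by_cases h1 : d * e = 1
  · exact Or.inl h1
  refine Or.inr ⟨?_, by rw [mul_smul, he.2, hd.2]⟩
  have h2 : (d * e) * (d * e) = 1 := by
    rw [show d * e * (d * e) = d * (e * d) * e by group, hc.symm.eq,
      show d * (d * e) * e = (d * d) * (e * e) by group, h.mul_self hd.1, h.mul_self he.1, one_mul]
  let P : Subgroup G := Subgroup.closure {d, e}
  have hcl : ∀ x ∈ P, x * x = 1 ∧ Commute x d ∧ Commute x e := by
    intro x hx
    induction hx using Subgroup.closure_induction with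
    | mem x hx =>
      rcases hx with rfl | rfl
      · exact ⟨h.mul_self hd.1, Commute.refl _, hc⟩
      · exact ⟨h.mul_self he.1, hc.symm, Commute.refl _⟩
    | one => exact ⟨one_mul 1, Commute.one_left _, Commute.one_left _⟩
    | mul x y hx hy ihx ihy =>
      have hxy : Commute x y := by
        have : x ∈ Subgroup.centralizer ({d, e} : Set G) := Subgroup.mem_centralizer_iff.2 (by
          rintro z (rfl | rfl)
          exacts [ihx.2.1.eq.symm, ihx.2.2.eq.symm])
        have hle : P ≤ Subgroup.centralizer ({x} : Set G) := (Subgroup.closure_le _).2 (by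
          rintro z (rfl | rfl)
          exacts [Subgroup.mem_centralizer_singleton_iff.2 ihx.2.1.eq.symm,
            Subgroup.mem_centralizer_singleton_iff.2 ihx.2.2.eq.symm])
        exact (Subgroup.mem_centralizer_singleton_iff.1 (hle hy)).symm
      refine ⟨?_, ihx.2.1.mul_left ihy.2.1, ihx.2.2.mul_left ihy.2.2⟩
      rw [show x * y * (x * y) = x * (y * x) * y by group, hxy.symm.eq,
        show x * (x * y) * y = (x * x) * (y * y) by group, ihx.1, ihy.1, one_mul]
    | inv x hx ih =>
      exact ⟨by rw [← mul_inv_rev, ih.1, inv_one], ih.2.1.inv_left, ih.2.2.inv_left⟩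
  have hP : IsPGroup 2 P := fun x => ⟨1, Subtype.ext (by simpa [pow_two] using (hcl x x.2).1)⟩
  refine h.closed P hP (d * e) (mul_mem (Subgroup.subset_closure ⟨hd.1, ?_⟩)
    (Subgroup.subset_closure ⟨he.1, ?_⟩)) (orderOf_eq_prime (by rw [pow_two, h2]) h1)
  · exact Subgroup.subset_closure (Or.inl rfl)
  · exact Subgroup.subset_closure (Or.inr rfl)

/-- The group of a point: the members at it and the identity. -/
def pointGroup [Finite G] (h : ClosedSetting D Ω) (hab : PointAbelian D Ω) (a : Ω) : Subgroup G where
  carrier := insert 1 (dat D a)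
  one_mem' := Set.mem_insert _ _
  mul_mem' {d e} hd he := by
    rcases hd with rfl | hd
    · rw [one_mul]; exact he
    rcases he with rfl | he
    · rw [mul_one]; exact Or.inr hd
    exact h.mul_mem_dat hd he (hab a d hd e he)
  inv_mem' {d} hd := by
    rcases hd with rfl | hd
    · exact Or.inl inv_one
    · rw [h.inv_eq hd.1]; exact Or.inr hd

/-- Commuting members at every point give the setting of Theorem T. -/
theorem tiSetting [Finite G] (h : ClosedSetting D Ω) (hab : PointAbelian D Ω) :
    TISetting (h.pointGroup hab) where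
  sq a x hx := by
    rcases hx with rfl | hx
    · exact one_mul 1
    · exact h.mul_self hx.1
  fix a x hx := by
    rcases hx with rfl | hx
    · exact one_mem _
    · exact hx.2
  unique a x hx hx1 b hb := by
    rcases hx with rfl | hx
    · exact absurd rfl hx1
    · exact h.fixed_unique x hx.1 b a hb hx.2
  conj g a x hx := by
    rcases hx with rfl | hx
    · exact Or.inl (by simp)
    · exact Or.inr (h.conj_mem_dat g hx)
  ne_bot a := by
    obtain ⟨d, hd⟩ := OnePoint.dat_nonempty h.covers a
    refine (Subgroup.ne_bot_iff_exists_ne_one).2 ⟨⟨d, Or.inr hd⟩, fun e => ?_⟩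
    exact CfsgLib.Involution.Dihedral.ne_one (h.orderOf_eq d hd.1) (congrArg Subtype.val e)

theorem members_pointGroup [Finite G] (h : ClosedSetting D Ω) (hab : PointAbelian D Ω) :
    members (h.pointGroup hab) = D := by
  ext d
  constructor
  · rintro ⟨hd1, a, hd | hd⟩
    · exact absurd hd hd1
    · exact hd.1
  · intro hd
    obtain ⟨a, ha⟩ := h.exists_fixed d hd
    exact ⟨CfsgLib.Involution.Dihedral.ne_one (h.orderOf_eq d hd), a, Or.inr ⟨hd, ha⟩⟩

/-- With commuting members at every point there are no bad involutions. -/
theorem noBad_of_pointAbelian [Finite G] [Finite Ω] [FaithfulSMul G Ω] (h : ClosedSetting D Ω)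
    (hgen : Subgroup.closure D = ⊤) (hab : PointAbelian D Ω) : NoBad G Ω :=
  theorem_T (h.tiSetting hab) (by rwa [h.members_pointGroup hab])

end ClosedSetting

end CfsgLib.LocalEven.OnePointFront
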