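import Cfsg.Agent.Lib.LocalEven.OnePointFront.Setup
import Cfsg.Agent.Lib.LocalEven.TIEndgame.PairCore

/-!
# Closed settings pass to cores and to images

`ClosedSetting.of_points` builds a closed setting from involutions with one fixed point each, one at
every point, closed in 2-groups.  Such a setting passes to the core of any subgroup on its points
and to the image of this core in the permutations of these points: 2-groups of the image lift with
their members, and members never act trivially.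
-/

set_option autoImplicit false
set_option linter.style.haveILetI false

namespace CfsgLib.LocalEven.OnePointFront

open MulAction CfsgLib.LocalEven.TIEndgame CfsgLib.Involution

universe u v

/-- Two commuting involutions generate a 2-group. -/
theorem isPGroup_pair {G : Type*} [Group G] {d e : G} (hd : orderOf d = 2) (he : orderOf e = 2)
    (hc : Commute d e) : IsPGroup 2 ↥(Subgroup.zpowers d ⊔ Subgroup.zpowers e) := by
  haveI : Fact (Nat.Prime 2) := ⟨Nat.prime_two⟩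
  refine (CfsgLib.Involution.Basic.isPGroup_zpowers_of_two hd).to_sup_of_normal_right'
    (CfsgLib.Involution.Basic.isPGroup_zpowers_of_two he) ?_
  refine le_trans ?_ (Subgroup.centralizer_le_normalizer _)
  refine Subgroup.zpowers_le.2 (Subgroup.mem_centralizer_iff.2 ?_)
  rintro _ ⟨k, rfl⟩
  exact ((hc.symm).zpow_left k).eq

variable {G : Type u} {Ω : Type v} [Group G] [MulAction G Ω] {D : Set G}

theorem coreOf_le (D : Set G) (H : Subgroup G) : coreOf D H ≤ H :=
  (Subgroup.closure_le _).2 fun _ hd => hd.2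

theorem mem_coreOf {H : Subgroup G} {d : G} (hd : d ∈ D) (hdH : d ∈ H) : d ∈ coreOf D H :=
  Subgroup.subset_closure ⟨hd, hdH⟩

theorem coreOf_mono (D : Set G) {H K : Subgroup G} (hHK : H ≤ K) : coreOf D H ≤ coreOf D K :=
  Subgroup.closure_mono fun _ hd => ⟨hd.1, hHK hd.2⟩

/-- A 2-group with a member contains a member centralised by all of it, if closed. -/
theorem exists_central_member [Finite G]
    (h2 : ∀ d ∈ D, orderOf d = 2) (hconj : ∀ g : G, ∀ d ∈ D, g * d * g⁻¹ ∈ D)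
    (hclosed : ∀ P : Subgroup G, IsPGroup 2 P → ∀ z ∈ Subgroup.closure (D ∩ (P : Set G)),
      orderOf z = 2 → z ∈ D)
    {T : Subgroup G} (hT : IsPGroup 2 T) {d : G} (hd : d ∈ D) (hdT : d ∈ T) :
    ∃ z ∈ D, z ∈ T ∧ ∀ x ∈ T, Commute x z := by
  haveI : Fact (Nat.Prime 2) := ⟨Nat.prime_two⟩
  set L := Subgroup.closure (D ∩ (T : Set G)) with hL
  have hLT : L ≤ T := (Subgroup.closure_le _).2 fun _ hx => hx.2
  have hnorm : ∀ g ∈ T, ∀ y ∈ L, g * y * g⁻¹ ∈ L := by
    intro g hg y hy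
    have hle : L ≤ L.comap (MulAut.conj g).toMonoidHom := by
      refine (Subgroup.closure_le _).2 fun x hx => ?_
      exact Subgroup.subset_closure
        ⟨hconj g x hx.1, T.mul_mem (T.mul_mem hg hx.2) (T.inv_mem hg)⟩
    exact hle hy
  letI : MulAction T L :=
    { smul := fun g x => ⟨g * x * (g : G)⁻¹, hnorm g g.2 x x.2⟩
      one_smul := fun x => Subtype.ext (by show (1 : G) * x * (1 : G)⁻¹ = x; simp)
      mul_smul := fun g g' x => Subtype.ext (by
        show ((g : G) * g') * x * ((g : G) * g')⁻¹ = g * (g' * x * (g' : G)⁻¹) * (g : G)⁻¹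
        group) }
  have hdL : d ∈ L := Subgroup.subset_closure ⟨hd, hdT⟩
  have hdvd : 2 ∣ Nat.card L := by
    rw [← h2 d hd]
    exact Subgroup.orderOf_dvd_natCard _ hdL
  have h1 : (1 : L) ∈ fixedPoints T L := fun g =>
    Subtype.ext (show (g : G) * (1 : G) * (g : G)⁻¹ = 1 by simp)
  obtain ⟨y, hy, hy1⟩ := hT.exists_fixed_point_of_prime_dvd_card_of_fixed_point L hdvd h1
  have hcomm : ∀ x ∈ T, Commute x (y : G) := fun x hx =>
    mul_inv_eq_iff_eq_mul.1 (congrArg Subtype.val (hy ⟨x, hx⟩))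
  have hy1' : (y : G) ≠ 1 := fun e => hy1 (Subtype.ext e.symm)
  obtain ⟨k, hk⟩ := IsPGroup.exists_orderOf_eq_pow hT ⟨y, hLT y.2⟩
  rw [Subgroup.orderOf_mk] at hk
  have hk0 : k ≠ 0 := by
    rintro rfl
    exact hy1' (orderOf_eq_one_iff.1 (by simpa using hk))
  have hdiv : 2 ∣ orderOf (y : G) := hk ▸ dvd_pow_self 2 hk0
  have hz := orderOf_pow_orderOf_div (x := (y : G)) (orderOf_pos _).ne' hdiv
  exact ⟨_, hclosed T hT _ (pow_mem y.2 _) hz, hLT (pow_mem y.2 _),
    fun x hx => (hcomm x hx).pow_right _⟩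

/-- A closed setting from involutions with one fixed point, one at each point, closed in 2-groups. -/
theorem ClosedSetting.of_points [Finite G] (h2 : ∀ d ∈ D, orderOf d = 2)
    (hconj : ∀ g : G, ∀ d ∈ D, g * d * g⁻¹ ∈ D)
    (hex : ∀ d ∈ D, ∃ a : Ω, d • a = a)
    (huniq : ∀ d ∈ D, ∀ a b : Ω, d • a = a → d • b = b → a = b)
    (hne : ∀ a : Ω, (dat D a).Nonempty)
    (hclosed : ∀ P : Subgroup G, IsPGroup 2 P → ∀ z ∈ Subgroup.closure (D ∩ (P : Set G)),
      orderOf z = 2 → z ∈ D) : ClosedSetting D Ω where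
  orderOf_eq := h2
  conj_mem := hconj
  exists_fixed := hex
  fixed_unique := huniq
  pair_unique := by
    intro d hd e he hc hne' a b ha hb
    refine huniq (d * e) (hclosed _ (isPGroup_pair (h2 d hd) (h2 e he) hc) _ ?_ ?_) a b ha hb
    · exact mul_mem (Subgroup.subset_closure ⟨hd, Subgroup.mem_sup_left (Subgroup.mem_zpowers d)⟩)
        (Subgroup.subset_closure ⟨he, Subgroup.mem_sup_right (Subgroup.mem_zpowers e)⟩)
    · refine orderOf_eq_prime ?_ fun e1 => hne' ?_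
      · rw [pow_two, show d * e * (d * e) = d * (e * d) * e by group, hc.symm.eq,
          show d * (d * e) * e = (d * d) * (e * e) by group, Dihedral.mul_self (h2 d hd),
          Dihedral.mul_self (h2 e he), one_mul]
      · rw [mul_eq_one_iff_eq_inv.1 e1, Dihedral.inv_eq (h2 e he)]
  covers := by
    haveI : Fact (Nat.Prime 2) := ⟨Nat.prime_two⟩
    intro a P hP hPa
    obtain ⟨d, hd⟩ := hne a
    set M := stabilizer G a
    have hP' : IsPGroup 2 ↥(P.subgroupOf M) := hP.comap_subtype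
    obtain ⟨T, hT⟩ := hP'.exists_le_sylow
    have hd2 : IsPGroup 2 ↥(Subgroup.zpowers (⟨d, hd.2⟩ : M)) :=
      CfsgLib.Involution.Basic.isPGroup_zpowers_of_two
        ((Subgroup.orderOf_mk d hd.2).trans (h2 d hd.1))
    obtain ⟨T', hT'⟩ := hd2.exists_le_sylow
    obtain ⟨g, hg⟩ := exists_smul_eq M T' T
    have hmem : g * (⟨d, hd.2⟩ : M) * g⁻¹ ∈ T := by
      rw [← hg]
      exact Subgroup.smul_mem_pointwise_smul _ (MulAut.conj g) _ (hT' (Subgroup.mem_zpowers _))
    obtain ⟨z, hzD, hzT, hzc⟩ := exists_central_member h2 hconj hclosed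
      (T.isPGroup'.map M.subtype) (hconj g d hd.1) ⟨_, hmem, rfl⟩
    refine ⟨z, ⟨hzD, ?_⟩, fun x hx => hzc x ⟨⟨x, hPa hx⟩, hT hx, rfl⟩⟩
    obtain ⟨y, -, rfl⟩ := hzT
    exact y.2
  closed := hclosed

namespace ClosedSetting

variable (h : ClosedSetting D Ω)
include h

theorem conj_mem_coreOf {H : Subgroup G} {g x : G} (hg : g ∈ H) (hx : x ∈ coreOf D H) :
    g * x * g⁻¹ ∈ coreOf D H := by
  have hle : coreOf D H ≤ (coreOf D H).comap (MulAut.conj g).toMonoidHom := by
    refine (Subgroup.closure_le _).2 fun d hd => ?_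
    exact mem_coreOf (h.conj_mem g d hd.1) (H.mul_mem (H.mul_mem hg hd.2) (H.inv_mem hg))
  exact hle hx

theorem smul_mem_ptsOf {H : Subgroup G} {g : G} (hg : g ∈ H) {c : Ω} (hc : c ∈ ptsOf D Ω H) :
    g • c ∈ ptsOf D Ω H := by
  obtain ⟨d, hd, hdH, hdc⟩ := hc
  exact ⟨g * d * g⁻¹, h.conj_mem g d hd, H.mul_mem (H.mul_mem hg hdH) (H.inv_mem hg),
    (h.conj_mem_dat g ⟨hd, hdc⟩).2⟩

theorem ptsOf_centralizer [Finite G] {x : G} (hx : orderOf x = 2) :
    ptsOf D Ω (Subgroup.centralizer {x}) = fixedBy Ω x := by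
  ext c
  constructor
  · rintro ⟨d, hd, hdx, hdc⟩
    exact h.fix_of_commute hd hdc (Subgroup.mem_centralizer_singleton_iff.1 hdx)
  · intro hc
    obtain ⟨d, hd, hdx⟩ := OnePoint.exists_dat_commute h.covers hx (show x • c = c from hc)
    exact ⟨d, hd.1, Subgroup.mem_centralizer_singleton_iff.2 hdx.eq.symm, hd.2⟩

/-- The core of a subgroup normalising a nontrivial point-fixing subgroup is proper. -/
theorem coreOf_ne_top [Finite G] [FaithfulSMul G Ω] {H K : Subgroup G} {a : Ω} (hK : K ≠ ⊥)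
    (hKa : K ≤ stabilizer G a) (hHK : H ≤ Subgroup.normalizer (K : Set G)) :
    coreOf D H ≠ ⊤ := by
  intro htop
  refine hK ((Subgroup.eq_bot_iff_forall _).2 fun k hk => eq_of_smul_eq_smul (α := Ω) fun c => ?_)
  obtain ⟨g, rfl⟩ := h.exists_move h.covers a c
  have hg : g ∈ Subgroup.normalizer (K : Set G) :=
    hHK (coreOf_le D H (htop ▸ Subgroup.mem_top g))
  have hk' : g⁻¹ * k * g ∈ K := by
    have := (Subgroup.mem_normalizer_iff.1 (inv_mem hg) k).1 hk
    rwa [inv_inv] at this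
  have := mem_stabilizer_iff.1 (hKa hk')
  rw [mul_smul, mul_smul, inv_smul_eq_iff] at this
  rw [one_smul, this]

theorem coreOf_centralizer_ne_top [Finite G] [FaithfulSMul G Ω] {x : G} (hx : IsBad Ω x) :
    coreOf D (Subgroup.centralizer {x}) ≠ ⊤ := by
  obtain ⟨hx2, a, -, -, ha, -⟩ := hx
  refine h.coreOf_ne_top (K := Subgroup.zpowers x) (a := a) ?_
    (Subgroup.zpowers_le.2 (mem_stabilizer_iff.2 ha)) (le_trans ?_ (Subgroup.centralizer_le_normalizer _))
  · rw [Ne, Subgroup.zpowers_eq_bot]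
    exact Dihedral.ne_one hx2
  · intro g hg
    refine Subgroup.mem_centralizer_iff.2 ?_
    rintro _ ⟨k, rfl⟩
    exact (Commute.zpow_left (Subgroup.mem_centralizer_singleton_iff.1 hg).symm k).eq

/-- All members of a core with two points are conjugate in it. -/
theorem exists_conj_coreOf [Finite G] {H : Subgroup G} {d e : G} (hd : d ∈ D) (hdH : d ∈ H)
    (he : e ∈ D) (heH : e ∈ H) {a b : Ω} (ha : a ∈ ptsOf D Ω H) (hb : b ∈ ptsOf D Ω H)
    (hab : a ≠ b) : ∃ g ∈ coreOf D H, g * d * g⁻¹ = e := by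
  have step : ∀ {x y : G} {p q : Ω}, x ∈ dat D p → x ∈ H → y ∈ dat D q → y ∈ H → p ≠ q →
      ∃ g ∈ coreOf D H, g * x * g⁻¹ = y := by
    intro x y p q hx hxH hy hyH hpq
    obtain ⟨k, hk, hke⟩ := Dihedral.exists_conj_of_odd (h.orderOf_eq x hx.1) (h.orderOf_eq y hy.1)
      (h.odd_of_ne hx hy hpq)
    exact ⟨k, Subgroup.zpowers_le.2 (mul_mem (mem_coreOf hx.1 hxH) (mem_coreOf hy.1 hyH)) hk, hke⟩
  obtain ⟨p, hp⟩ := h.exists_fixed d hd
  obtain ⟨q, hq⟩ := h.exists_fixed e he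
  by_cases hpq : p = q
  · obtain ⟨r, hr, hrp⟩ : ∃ r ∈ ptsOf D Ω H, r ≠ p := by
      by_cases hap : a = p
      · exact ⟨b, hb, fun e' => hab (hap.trans e'.symm)⟩
      · exact ⟨a, ha, hap⟩
    obtain ⟨f, hf, hfH, hfr⟩ := hr
    obtain ⟨g₁, hg₁, h₁⟩ := step ⟨hd, hp⟩ hdH ⟨hf, hfr⟩ hfH hrp.symm
    obtain ⟨g₂, hg₂, h₂⟩ := step ⟨hf, hfr⟩ hfH ⟨he, hq⟩ heH (hpq ▸ hrp)
    refine ⟨g₂ * g₁, mul_mem hg₂ hg₁, ?_⟩
    rw [← h₂, ← h₁]
    group
  · exact step ⟨hd, hp⟩ hdH ⟨he, hq⟩ heH hpq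

/-- Two members at different points of a core are exchanged by a member in it. -/
theorem exists_swapper_mem [Finite G] {H : Subgroup G} {a b : Ω} (hab : a ≠ b) {d e : G}
    (hd : d ∈ dat D a) (hdH : d ∈ H) (he : e ∈ dat D b) (heH : e ∈ H) :
    ∃ f ∈ swappers D a b, f ∈ H ∧ f * d * f⁻¹ = e := by
  have hd2 := h.orderOf_eq d hd.1
  have he2 := h.orderOf_eq e he.1
  obtain ⟨k, hk, hke⟩ := Dihedral.exists_conj_of_odd hd2 he2 (h.odd_of_ne hd he hab)
  obtain ⟨m, rfl⟩ := Subgroup.mem_zpowers_iff.1 hk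
  have hfe : (d * e) ^ m * d * d * ((d * e) ^ m * d)⁻¹ = e := Eq.trans (by group) hke
  refine ⟨(d * e) ^ m * d, ⟨?_, h.smul_eq_of_conj_eq hd he hfe⟩,
    mul_mem (zpow_mem (mul_mem hdH heH) m) hdH, hfe⟩
  rw [Dihedral.zpow_mul_left (Dihedral.conj_mul_left hd2 he2)]
  exact h.reflection_mem hd.1 he.1 _

/-- The torus: odd elements of the core fixing `a`, `b` are transitive on the members at `a`. -/
theorem exists_conj_pair_core [Finite G] {H : Subgroup G} {a b : Ω} (hab : a ≠ b) {d d' : G}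
    (hd : d ∈ dat D a) (hdH : d ∈ H) (hd' : d' ∈ dat D a) (hd'H : d' ∈ H)
    (hb : b ∈ ptsOf D Ω H) :
    ∃ g ∈ coreOf D H, g ∈ swapCore G a b ∧ g * d * g⁻¹ = d' := by
  obtain ⟨e, he, heH, heb⟩ := hb
  obtain ⟨f, hf, hfH, hfe⟩ := h.exists_swapper_mem hab hd hdH ⟨he, heb⟩ heH
  obtain ⟨f', hf', hf'H, hf'e⟩ := h.exists_swapper_mem hab hd' hd'H ⟨he, heb⟩ heH
  refine ⟨f' * f, mul_mem (mem_coreOf hf'.1 hf'H) (mem_coreOf hf.1 hfH),
    h.mul_mem_swapCore hab hf' hf, ?_⟩
  rw [show f' * f * d * (f' * f)⁻¹ = f' * (f * d * f⁻¹) * f'⁻¹ by group, hfe, ← hf'e,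
    h.inv_eq hf'.1]
  calc f' * (f' * d' * f') * f' = f' * f' * d' * (f' * f') := by group
    _ = d' := by rw [h.mul_self hf'.1, one_mul, mul_one]

section Image

variable {L : Type*} [Group L] [MulAction L Ω]

/-- A member does not act trivially. -/
theorem member_map_ne_one [Nontrivial Ω] {f : G →* L} (hf : ∀ (g : G) (c : Ω), f g • c = g • c)
    {d : G} (hd : d ∈ D) : f d ≠ 1 := by
  intro e
  obtain ⟨p, q, hpq⟩ := exists_pair_ne Ω
  refine hpq (h.fixed_unique d hd p q ?_ ?_) <;> rw [← hf, e, one_smul]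

/-- Members in a 2-group generate a subgroup acting faithfully. -/
theorem eq_one_of_map_eq_one [Finite G] [Nontrivial Ω] {f : G →* L}
    (hf : ∀ (g : G) (c : Ω), f g • c = g • c) {S : Subgroup G} (hS : IsPGroup 2 S) {y : G}
    (hy : y ∈ Subgroup.closure (D ∩ (S : Set G))) (hfy : f y = 1) : y = 1 := by
  by_contra hy1
  have hyS : y ∈ S := (Subgroup.closure_le _).2 (fun _ hx => hx.2) hy
  obtain ⟨k, hk⟩ := IsPGroup.exists_orderOf_eq_pow (p := 2) hS ⟨y, hyS⟩
  rw [Subgroup.orderOf_mk] at hk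
  have hk0 : k ≠ 0 := by
    rintro rfl
    exact hy1 (orderOf_eq_one_iff.1 (by simpa using hk))
  have hz := orderOf_pow_orderOf_div (x := y) (orderOf_pos _).ne' (hk ▸ dvd_pow_self 2 hk0)
  exact h.member_map_ne_one hf (h.closed S hS _ (pow_mem hy _) hz)
    (by rw [map_pow, hfy, one_pow])

omit [MulAction L Ω] in
/-- A 2-group of the image lifts to a 2-group with the members over it. -/
theorem exists_lift [Finite G] {f : G →* L} (hsurj : Function.Surjective f) {P : Subgroup L}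
    (hP : IsPGroup 2 P) :
    ∃ S : Subgroup G, IsPGroup 2 S ∧ S.map f = P ∧
      ∀ d ∈ D, f d ∈ P → ∃ k : G, f k = 1 ∧ k * d * k⁻¹ ∈ S := by
  haveI : Fact (Nat.Prime 2) := ⟨Nat.prime_two⟩
  haveI : Finite L := Finite.of_surjective f hsurj
  set C := P.comap f with hC
  let φ : ↥C →* ↥P := (f.comp C.subtype).codRestrict P fun x => x.2
  have hφ : Function.Surjective φ := fun p => by
    obtain ⟨g, hg⟩ := hsurj (p : L)
    exact ⟨⟨g, show f g ∈ P by rw [hg]; exact p.2⟩, Subtype.ext hg⟩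
  obtain ⟨T₀⟩ : Nonempty (Sylow 2 ↥C) := inferInstance
  have htop : (T₀.mapSurjective hφ : Subgroup ↥P) = ⊤ :=
    ((T₀.mapSurjective hφ).3 (IsPGroup.to_subgroup hP ⊤) le_top).symm
  have hlift : ∀ p : ↥P, ∃ s ∈ T₀, φ s = p := fun p => by
    have hp : p ∈ (T₀.mapSurjective hφ : Subgroup ↥P) := htop ▸ Subgroup.mem_top p
    exact hp
  refine ⟨(T₀ : Subgroup ↥C).map C.subtype, T₀.isPGroup'.map _, le_antisymm ?_ fun p hp => ?_,
    fun d hd hdP => ?_⟩
  · rintro _ ⟨_, ⟨x, -, rfl⟩, rfl⟩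
    exact x.2
  · obtain ⟨s, hs, hsp⟩ := hlift ⟨p, hp⟩
    exact ⟨s, ⟨s, hs, rfl⟩, congrArg Subtype.val hsp⟩
  · have hd2 : IsPGroup 2 ↥(Subgroup.zpowers (⟨d, hdP⟩ : ↥C)) :=
      CfsgLib.Involution.Basic.isPGroup_zpowers_of_two
        ((Subgroup.orderOf_mk d hdP).trans (h.orderOf_eq d hd))
    obtain ⟨T, hT⟩ := hd2.exists_le_sylow
    obtain ⟨g, hg⟩ := exists_smul_eq ↥C T T₀
    have hmem : g * (⟨d, hdP⟩ : ↥C) * g⁻¹ ∈ T₀ := by
      rw [← hg]
      exact Subgroup.smul_mem_pointwise_smul _ (MulAut.conj g) _ (hT (Subgroup.mem_zpowers _))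
    obtain ⟨s, hs, hsg⟩ := hlift (φ g)
    refine ⟨((s⁻¹ * g : ↥C) : G), ?_, (s⁻¹ * g) * ⟨d, hdP⟩ * (s⁻¹ * g)⁻¹, ?_, rfl⟩
    · exact congrArg Subtype.val (show φ (s⁻¹ * g) = 1 by rw [map_mul, map_inv, hsg, inv_mul_cancel])
    · rw [show (s⁻¹ * g) * ⟨d, hdP⟩ * (s⁻¹ * g)⁻¹ = s⁻¹ * (g * ⟨d, hdP⟩ * g⁻¹) * s by group]
      exact (T₀ : Subgroup ↥C).mul_mem ((T₀ : Subgroup ↥C).mul_mem (inv_mem hs) hmem) hs

/-- The image of a closed setting is one. -/
theorem map [Finite G] [Nontrivial Ω] {f : G →* L} (hsurj : Function.Surjective f)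
    (hf : ∀ (g : G) (c : Ω), f g • c = g • c) : ClosedSetting (f '' D) Ω := by
  haveI : Finite L := Finite.of_surjective f hsurj
  refine ClosedSetting.of_points ?_ ?_ ?_ ?_ ?_ ?_
  · rintro _ ⟨d, hd, rfl⟩
    refine orderOf_eq_prime ?_ (h.member_map_ne_one hf hd)
    rw [pow_two, ← map_mul, h.mul_self hd, map_one]
  · rintro l _ ⟨d, hd, rfl⟩
    obtain ⟨g, rfl⟩ := hsurj l
    exact ⟨g * d * g⁻¹, h.conj_mem g d hd, by rw [map_mul, map_mul, map_inv]⟩
  · rintro _ ⟨d, hd, rfl⟩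
    simp only [hf]
    exact h.exists_fixed d hd
  · rintro _ ⟨d, hd, rfl⟩ a b ha hb
    rw [hf] at ha hb
    exact h.fixed_unique d hd a b ha hb
  · intro a
    obtain ⟨d, hd⟩ := OnePoint.dat_nonempty h.covers a
    exact ⟨f d, ⟨d, hd.1, rfl⟩, (hf d a).trans hd.2⟩
  · intro P hP z hz hz2
    obtain ⟨S, hS, -, hlift⟩ := h.exists_lift hsurj hP
    have hle : Subgroup.closure (f '' D ∩ (P : Set L)) ≤
        (Subgroup.closure (D ∩ (S : Set G))).map f := by
      refine (Subgroup.closure_le _).2 ?_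
      rintro _ ⟨⟨d, hd, rfl⟩, hdP⟩
      obtain ⟨k, hk, hkS⟩ := hlift d hd hdP
      exact ⟨k * d * k⁻¹, Subgroup.subset_closure ⟨h.conj_mem k d hd, hkS⟩,
        by rw [map_mul, map_mul, map_inv, hk, inv_one, one_mul, mul_one]⟩
    obtain ⟨y, hy, rfl⟩ := hle hz
    refine ⟨y, h.closed S hS y hy (orderOf_eq_prime ?_ fun e => ?_), rfl⟩
    · refine h.eq_one_of_map_eq_one hf hS (pow_mem hy 2) ?_
      rw [map_pow, ← hz2, pow_orderOf_eq_one]
    · rw [e, map_one, orderOf_one] at hz2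
      exact absurd hz2 (by norm_num)

end Image

/-- The core acting on the points of its members. -/
def coreAct (H : Subgroup G) : SubMulAction ↥(coreOf D H) Ω where
  carrier := ptsOf D Ω H
  smul_mem' g _ hc := h.smul_mem_ptsOf (coreOf_le D H g.2) hc

/-- The permutations of the points given by the core. -/
def coreHom (H : Subgroup G) : ↥(coreOf D H) →* Equiv.Perm ↥(h.coreAct H) :=
  MulAction.toPermHom _ _

/-- The image of the core. -/
abbrev CoreImg (H : Subgroup G) : Subgroup (Equiv.Perm ↥(h.coreAct H)) := (h.coreHom H).range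

/-- The map onto the image. -/
def rho (H : Subgroup G) : ↥(coreOf D H) →* ↥(h.CoreImg H) := (h.coreHom H).rangeRestrict

/-- The members in the image. -/
def imgD (H : Subgroup G) : Set ↥(h.CoreImg H) :=
  h.rho H '' {d : ↥(coreOf D H) | (d : G) ∈ D}

theorem rho_surjective (H : Subgroup G) : Function.Surjective (h.rho H) :=
  (h.coreHom H).rangeRestrict_surjective

theorem rho_smul {H : Subgroup G} (x : ↥(coreOf D H)) (c : ↥(h.coreAct H)) :
    ((h.rho H x • c : ↥(h.coreAct H)) : Ω) = (x : G) • (c : Ω) := rfl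

theorem rho_fix_iff {H : Subgroup G} {x : ↥(coreOf D H)} {c : ↥(h.coreAct H)} :
    h.rho H x • c = c ↔ (x : G) • (c : Ω) = c :=
  ⟨fun e => (h.rho_smul x c).symm.trans (congrArg Subtype.val e), fun e => Subtype.ext e⟩

instance faithful_coreImg (H : Subgroup G) : FaithfulSMul ↥(h.CoreImg H) ↥(h.coreAct H) :=
  ⟨fun e => Subtype.ext (Equiv.ext e)⟩

theorem rho_eq_iff {H : Subgroup G} {x y : ↥(coreOf D H)} :
    h.rho H x = h.rho H y ↔ ∀ c ∈ ptsOf D Ω H, (x : G) • c = (y : G) • c := by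
  refine ⟨fun e c hc => ?_, fun e => eq_of_smul_eq_smul (α := ↥(h.coreAct H)) fun c =>
    Subtype.ext (e c c.2)⟩
  have := congrArg (fun g : ↥(h.CoreImg H) => ((g • (⟨c, hc⟩ : ↥(h.coreAct H)) : _) : Ω)) e
  simpa [h.rho_smul] using this

theorem rho_eq_one {H : Subgroup G} {x : ↥(coreOf D H)} :
    h.rho H x = 1 ↔ ∀ c ∈ ptsOf D Ω H, (x : G) • c = c := by
  rw [← map_one (h.rho H), h.rho_eq_iff]
  simp

/-- The core on its points is a closed setting. -/
theorem coreSub [Finite G] (H : Subgroup G) :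
    ClosedSetting {d : ↥(coreOf D H) | (d : G) ∈ D} ↥(h.coreAct H) := by
  refine ClosedSetting.of_points ?_ ?_ ?_ ?_ ?_ ?_
  · intro d hd
    rw [← Subgroup.orderOf_coe]
    exact h.orderOf_eq _ hd
  · intro g d hd
    exact h.conj_mem _ _ hd
  · intro d hd
    obtain ⟨c, hc⟩ := h.exists_fixed _ hd
    exact ⟨⟨c, d, hd, coreOf_le D H d.2, hc⟩, Subtype.ext hc⟩
  · intro d hd a b ha hb
    exact Subtype.ext (h.fixed_unique _ hd _ _ (congrArg Subtype.val ha) (congrArg Subtype.val hb))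
  · rintro ⟨c, d, hd, hdH, hdc⟩
    exact ⟨⟨d, mem_coreOf hd hdH⟩, hd, Subtype.ext hdc⟩
  · intro P hP z hz hz2
    have hle : Subgroup.closure ({d : ↥(coreOf D H) | (d : G) ∈ D} ∩ (P : Set ↥(coreOf D H))) ≤
        (Subgroup.closure (D ∩ ((P.map (coreOf D H).subtype : Subgroup G) : Set G))).comap
          (coreOf D H).subtype := by
      refine (Subgroup.closure_le _).2 fun d hd => ?_
      exact Subgroup.subset_closure ⟨hd.1, d, hd.2, rfl⟩
    exact h.closed _ (hP.map _) _ (hle hz) ((Subgroup.orderOf_coe z).trans hz2)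

theorem nontrivial_coreAct {H : Subgroup G} {a b : Ω} (ha : a ∈ ptsOf D Ω H)
    (hb : b ∈ ptsOf D Ω H) (hab : a ≠ b) : Nontrivial ↥(h.coreAct H) :=
  ⟨⟨⟨a, ha⟩, ⟨b, hb⟩, fun e => hab (congrArg Subtype.val e)⟩⟩

/-- The image of a core on its points is a closed setting. -/
theorem coreSetting [Finite G] {H : Subgroup G} {a b : Ω} (ha : a ∈ ptsOf D Ω H)
    (hb : b ∈ ptsOf D Ω H) (hab : a ≠ b) : ClosedSetting (h.imgD H) ↥(h.coreAct H) := by
  haveI := h.nontrivial_coreAct ha hb hab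
  exact (h.coreSub H).map (h.rho_surjective H) fun _ _ => rfl

/-- The images of the members generate the image of the core. -/
theorem core_gen (H : Subgroup G) : Subgroup.closure (h.imgD H) = ⊤ := by
  rw [imgD, ← MonoidHom.map_closure]
  have htop : Subgroup.closure {d : ↥(coreOf D H) | (d : G) ∈ D} = ⊤ := by
    refine top_le_iff.1 (le_of_eq_of_le (Subgroup.closure_closure_coe_preimage
      (k := D ∩ (H : Set G))).symm ?_)
    exact Subgroup.closure_mono fun d hd => hd.1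
  rw [htop, Subgroup.map_top_of_surjective _ (h.rho_surjective H)]

/-- Commuting members at a point have distinct images. -/
theorem rho_injective_of_commute [Finite G] {H : Subgroup G} {a b : Ω} (ha : a ∈ ptsOf D Ω H)
    (hb : b ∈ ptsOf D Ω H) (hab : a ≠ b) {d e : ↥(coreOf D H)} (hd : (d : G) ∈ D)
    (he : (e : G) ∈ D) (hc : Commute (d : G) e) (heq : h.rho H d = h.rho H e) : d = e := by
  haveI := h.nontrivial_coreAct ha hb hab
  by_contra hne
  have hc' : Commute d e := Subtype.ext hc.eq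
  have hK := h.coreSub H
  have hd2 := hK.orderOf_eq d hd
  have he2 := hK.orderOf_eq e he
  refine hne ((mul_eq_one_iff_eq_inv.1 (hK.eq_one_of_map_eq_one (f := h.rho H) (fun _ _ => rfl)
    (isPGroup_pair hd2 he2 hc') (y := d * e) ?_ ?_)).trans (hK.inv_eq he))
  · exact mul_mem (Subgroup.subset_closure ⟨hd, Subgroup.mem_sup_left (Subgroup.mem_zpowers d)⟩)
      (Subgroup.subset_closure ⟨he, Subgroup.mem_sup_right (Subgroup.mem_zpowers e)⟩)
  · rw [map_mul, heq, ← map_mul, hK.mul_self he, map_one]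

end ClosedSetting

end CfsgLib.LocalEven.OnePointFront
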