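import Cfsg.Agent.Lib.LocalEven.OnePointFront.Reductions.Setting

/-!
# Good point groups pass to the image of a core on its points
-/

set_option autoImplicit false
set_option linter.style.haveILetI false

namespace CfsgLib.LocalEven.OnePointFront

open MulAction CfsgLib.LocalEven.TIEndgame CfsgLib.Involution

universe u v

variable {G : Type u} {Ω : Type v} [Group G] [Finite G] [MulAction G Ω] {D : Set G}

/-- The image of a core on its points has good point groups. -/
theorem ClosedSetting.hasGood_core (h : ClosedSetting D Ω) (hK : HasGood D Ω) {H : Subgroup G}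
    {a b : Ω} (ha : a ∈ ptsOf D Ω H) (hb : b ∈ ptsOf D Ω H) (hab : a ≠ b) :
    HasGood (h.imgD H) ↥(h.coreAct H) := by
  obtain ⟨K, hle, hconj, hinv⟩ := hK
  haveI := h.nontrivial_coreAct ha hb hab
  have hP : PointGroups (G := ↥(coreOf D H))
      fun c : ↥(h.coreAct H) => (K (c : Ω)).subgroupOf (coreOf D H) :=
    { le := fun c x hx => mem_stabilizer_iff.2 (Subtype.ext (mem_stabilizer_iff.1 (hle _ hx)))
      conj := fun g c x hx => hconj (g : G) c x hx
      unique := fun c c' x hx2 hx hxc' => by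
        have hd := (hinv (c : Ω) x ((Subgroup.orderOf_coe x).trans hx2)).1 hx
        exact Subtype.ext (h.fixed_unique _ hd.1 _ _ (congrArg Subtype.val hxc') hd.2)
      exists_invol := fun c => by
        obtain ⟨d, hd, hdH, hdc⟩ := c.2
        exact ⟨⟨d, mem_coreOf hd hdH⟩, (hinv (c : Ω) d (h.orderOf_eq d hd)).2 ⟨hd, hdc⟩,
          (Subgroup.orderOf_mk _ _).trans (h.orderOf_eq d hd)⟩ }
  have hD : involsOf (fun c : ↥(h.coreAct H) => (K (c : Ω)).subgroupOf (coreOf D H)) =
      {d : ↥(coreOf D H) | (d : G) ∈ D} := by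
    ext x
    constructor
    · rintro ⟨hx2, c, hx⟩
      exact ((hinv (c : Ω) x ((Subgroup.orderOf_coe x).trans hx2)).1 hx).1
    · intro hx
      obtain ⟨c, hc⟩ := h.exists_fixed _ hx
      exact ⟨(Subgroup.orderOf_coe x).symm.trans (h.orderOf_eq _ hx),
        ⟨c, x, hx, coreOf_le D H x.2, hc⟩, (hinv c x (h.orderOf_eq _ hx)).2 ⟨hx, hc⟩⟩
  have hL := (hP.map (h.rho_surjective H) fun _ _ => rfl).goodGroups
  rw [hP.involsOf_map (f := h.rho H) fun _ _ => rfl, hD] at hL
  exact ⟨_, hL.le, hL.conj, hL.invol⟩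

end CfsgLib.LocalEven.OnePointFront
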