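import Cfsg.Agent.Lib.LocalEven.OnePointFront.Setup
import Cfsg.Agent.Lib.LocalEven.TIEndgame.PairCore

/-!
# Interfaces for the full case

`R` is the group of members of a maximal 2-subgroup at `a` centralised by the full bad involution
`x`.  `LocalControl` says that `R` is normal modulo the odd core in the centraliser, inside the
stabiliser of `a`, of each of its subgroups.
-/

set_option autoImplicit false

namespace CfsgLib.LocalEven.OnePointFront

open MulAction CfsgLib.LocalEven.TIEndgame

universe u v

variable {G : Type u} {Ω : Type v} [Group G] [MulAction G Ω]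

/-- The odd core of a subgroup, as a subgroup of the group. -/
def oddIn (C : Subgroup G) : Subgroup G := (Cfsg.oddCore ↥C).map C.subtype

/-- A full bad involution `x`, its point `a` and the members `R` it centralises there. -/
structure FullData (D : Set G) (a : Ω) (x : G) (R P : Subgroup G) : Prop where
  bad : IsBad Ω x
  fix : x • a = a
  top : IsTopTwo P a
  mem : x ∈ P
  le : R ≤ P
  mem_iff : ∀ d : G, d ∈ R ↔ d = 1 ∨ (d ∈ D ∧ d ∈ P)
  sq : ∀ r ∈ R, r * r = 1
  comm : ∀ r ∈ R, Commute x r
  four : 4 ≤ Nat.card R
  bad_mul : ∀ r ∈ R, IsBad Ω (x * r)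
  /-- a 2-group of the stabiliser containing `R` has no members outside `R` -/
  maximal : ∀ S : Subgroup G, IsPGroup 2 S → S ≤ stabilizer G a → R ≤ S →
    ∀ d ∈ D, d ∈ S → d ∈ R

/-- The elements generated by the members commuting with `x` that fix its fixed points. -/
def lineKer (D : Set G) (Ω : Type v) [MulAction G Ω] (x : G) : Subgroup G :=
  coreOf D (Subgroup.centralizer {x}) ⊓ fixingSubgroup G (fixedBy Ω x)

/-- `R` is normal modulo the odd core in the local subgroups of its subgroups at `a`. -/
def LocalControl (a : Ω) (R : Subgroup G) : Prop :=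
  ∀ B : Subgroup G, B ≤ R → ∀ g ∈ stabilizer G a ⊓ Subgroup.centralizer (B : Set G), ∀ r ∈ R,
    g * r * g⁻¹ ∈ oddIn (stabilizer G a ⊓ Subgroup.centralizer (B : Set G)) ⊔ R

/-- The members at a point together with the identity form a subgroup of commuting elements. -/
def PointAbelian (D : Set G) (Ω : Type v) [MulAction G Ω] : Prop :=
  ∀ a : Ω, ∀ d ∈ dat D a, ∀ e ∈ dat D a, Commute d e

end CfsgLib.LocalEven.OnePointFront
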