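import Cfsg.Agent.Lib.LocalEven.OnePointFront.FullBasic

/-!
# Fusion of the members centralised by a full bad involution

`R` is weakly closed in the 2-subgroups of the stabiliser containing it, so the fusion inside `R`
in a subgroup of the stabiliser containing `R` is controlled by the normaliser of `R` (Burnside).
-/

set_option autoImplicit false
set_option linter.unusedSectionVars false

namespace CfsgLib.LocalEven.OnePointFront

open MulAction CfsgLib.LocalEven.TIEndgame CfsgLib.Involution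

universe u

namespace FullData

variable {G Ω : Type u} [Group G] [Finite G] [MulAction G Ω] {D : Set G} {a : Ω} {x : G}
  {R P : Subgroup G} (F : FullData D a x R P)
include F

theorem le_stabilizer : R ≤ stabilizer G a := F.le.trans F.top.2.1

theorem R_pgroup : IsPGroup 2 R := fun r => ⟨1, Subtype.ext (by
  rw [pow_one, SubgroupClass.coe_pow, pow_two]
  exact F.sq r r.2)⟩

theorem R_comm {r s : G} (hr : r ∈ R) (hs : s ∈ R) : Commute r s := by
  have hi : ∀ t ∈ R, t⁻¹ = t := fun t ht => inv_eq_of_mul_eq_one_right (F.sq t ht)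
  show r * s = s * r
  calc r * s = (r * s)⁻¹ := (hi _ (mul_mem hr hs)).symm
    _ = s⁻¹ * r⁻¹ := mul_inv_rev r s
    _ = s * r := by rw [hi r hr, hi s hs]

theorem mem_dat {r : G} (hr : r ∈ R) (hr1 : r ≠ 1) : r ∈ dat D a :=
  ⟨(((F.mem_iff r).1 hr).resolve_left hr1).1, mem_stabilizer_iff.1 (F.le_stabilizer hr)⟩

theorem ne_bot : R ≠ ⊥ := fun e => by
  have h4 := F.four
  rw [e, Subgroup.card_bot] at h4
  omega

variable (h : ClosedSetting D Ω)
include h

/-- `R` is weakly closed in the 2-subgroups of the stabiliser containing it. -/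
theorem conj_mem {S : Subgroup G} (hS : IsPGroup 2 S) (hSa : S ≤ stabilizer G a) (hRS : R ≤ S)
    {g : G} (hg : ∀ r ∈ R, g * r * g⁻¹ ∈ S) {r : G} (hr : r ∈ R) : g * r * g⁻¹ ∈ R := by
  by_cases hr1 : r = 1
  · subst hr1
    simp [one_mem]
  · exact F.maximal S hS hSa hRS _ (h.conj_mem g r (F.mem_dat hr hr1).1) (hg r hr)

/-- An element carrying `R` into a 2-subgroup of the stabiliser containing `R` normalises `R`. -/
theorem mem_normalizer {S : Subgroup G} (hS : IsPGroup 2 S) (hSa : S ≤ stabilizer G a)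
    (hRS : R ≤ S) {g : G} (hg : ∀ r ∈ R, g * r * g⁻¹ ∈ S) :
    g ∈ Subgroup.normalizer (R : Set G) := by
  rw [Subgroup.mem_normalizer_iff]
  intro y
  refine ⟨fun hy => F.conj_mem h hS hSa hRS hg hy, fun hy => ?_⟩
  have hle : R.map (MulAut.conj g).toMonoidHom ≤ R := by
    rintro _ ⟨r, hr, rfl⟩
    exact F.conj_mem h hS hSa hRS hg hr
  have heq : R.map (MulAut.conj g).toMonoidHom = R := Subgroup.eq_of_le_of_card_ge hle
    (Subgroup.card_map_of_injective (MulAut.conj g).injective).ge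
  obtain ⟨r, hr, hry⟩ : g * y * g⁻¹ ∈ R.map (MulAut.conj g).toMonoidHom := by rw [heq]; exact hy
  have : r = y := mul_left_cancel (mul_right_cancel hry)
  rwa [← this]

/-- A 2-subgroup of the stabiliser containing `R` normalises it. -/
theorem le_normalizer {S : Subgroup G} (hS : IsPGroup 2 S) (hSa : S ≤ stabilizer G a)
    (hRS : R ≤ S) : S ≤ Subgroup.normalizer (R : Set G) := fun g hg =>
  F.mem_normalizer h hS hSa hRS fun r hr => mul_mem (mul_mem hg (hRS hr)) (inv_mem hg)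

/-- Burnside: fusion inside `R` in a subgroup of the stabiliser containing it is induced by the
normaliser of `R`. -/
theorem exists_normalizer_conj {H : Subgroup G} (hHa : H ≤ stabilizer G a) (hRH : R ≤ H) {g : G}
    (hg : g ∈ H) {B : Set G} (hB : B ⊆ R) (hBg : ∀ b ∈ B, g * b * g⁻¹ ∈ R) :
    ∃ m ∈ H, m ∈ Subgroup.normalizer (R : Set G) ∧ ∀ b ∈ B, m * b * m⁻¹ = g * b * g⁻¹ := by
  haveI : Fact (Nat.Prime 2) := ⟨Nat.prime_two⟩
  set C : Subgroup G := H ⊓ Subgroup.centralizer ((fun b => g * b * g⁻¹) '' B) with hC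
  have hRC : R ≤ C := fun r hr => Subgroup.mem_inf.2 ⟨hRH hr, Subgroup.mem_centralizer_iff.2 (by
    rintro _ ⟨b, hb, rfl⟩
    exact (F.R_comm (hBg b hb) hr).eq)⟩
  have hgC : R.map (MulAut.conj g).toMonoidHom ≤ C := by
    rintro _ ⟨r, hr, rfl⟩
    refine Subgroup.mem_inf.2 ⟨mul_mem (mul_mem hg (hRH hr)) (inv_mem hg),
      Subgroup.mem_centralizer_iff.2 ?_⟩
    rintro _ ⟨b, hb, rfl⟩
    exact (Commute.map (F.R_comm (hB hb) hr) (MulAut.conj g).toMonoidHom
      ).eq
  obtain ⟨T, hT⟩ := (F.R_pgroup.comap_subtype (K := C)).exists_le_sylow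
  obtain ⟨c, hc⟩ := Basic.exists_conj_le T
    ((F.R_pgroup.map (MulAut.conj g).toMonoidHom).comap_subtype (K := C))
  have hS : IsPGroup 2 ↥((T : Subgroup C).map C.subtype) := T.2.map _
  have hSa : (T : Subgroup C).map C.subtype ≤ stabilizer G a :=
    (Subgroup.map_subtype_le _).trans (inf_le_left.trans hHa)
  have hRS : R ≤ (T : Subgroup C).map C.subtype := fun r hr =>
    ⟨⟨r, hRC hr⟩, hT (Subgroup.mem_comap.2 hr), rfl⟩
  have hcH : (c : G) ∈ H := (Subgroup.mem_inf.1 c.2).1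
  refine ⟨c * g, mul_mem hcH hg, F.mem_normalizer h hS hSa hRS fun r hr => ?_, fun b hb => ?_⟩
  · have hm : g * r * g⁻¹ ∈ R.map (MulAut.conj g).toMonoidHom := ⟨r, hr, rfl⟩
    refine ⟨_, hc ⟨g * r * g⁻¹, hgC hm⟩ (Subgroup.mem_comap.2 hm), ?_⟩
    show (c : G) * (g * r * g⁻¹) * (c : G)⁻¹ = _
    group
  · have h1 := Subgroup.mem_centralizer_iff.1 (Subgroup.mem_inf.1 c.2).2 _ ⟨b, hb, rfl⟩
    dsimp only at h1
    calc (c : G) * g * b * ((c : G) * g)⁻¹ = (c : G) * (g * b * g⁻¹) * (c : G)⁻¹ := by group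
      _ = g * b * g⁻¹ := by rw [← h1, mul_inv_cancel_right]

/-- In a subgroup of the stabiliser containing `R` every member is conjugate into `R`. -/
theorem exists_conj_into {H : Subgroup G} (hHa : H ≤ stabilizer G a) (hRH : R ≤ H) {d : G}
    (hd : d ∈ D) (hdH : d ∈ H) : ∃ k ∈ H, k * d * k⁻¹ ∈ R := by
  haveI : Fact (Nat.Prime 2) := ⟨Nat.prime_two⟩
  obtain ⟨T, hT⟩ := (F.R_pgroup.comap_subtype (K := H)).exists_le_sylow
  obtain ⟨k, hk⟩ := Basic.exists_conj_mem T (x := (⟨d, hdH⟩ : H))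
    ((Subgroup.orderOf_mk d _).trans (h.orderOf_eq d hd))
  refine ⟨k, k.2, F.maximal ((T : Subgroup H).map H.subtype) (T.2.map _)
    ((Subgroup.map_subtype_le _).trans hHa)
    (fun r hr => ⟨⟨r, hRH hr⟩, hT (Subgroup.mem_comap.2 hr), rfl⟩) _ (h.conj_mem k d hd)
    ⟨_, hk, rfl⟩⟩

/-- An element carrying a member of `R` into the stabiliser fixes the point. -/
theorem smul_eq {g r : G} (hr : r ∈ R) (hr1 : r ≠ 1) (hg : g * r * g⁻¹ ∈ stabilizer G a) :
    g • a = a :=
  h.fixed_unique (g * r * g⁻¹) (h.conj_mem g r (F.mem_dat hr hr1).1) _ _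
    (h.toOnePoint.conj_mem_dat g (F.mem_dat hr hr1)).2 (mem_stabilizer_iff.1 hg)

end FullData

end CfsgLib.LocalEven.OnePointFront
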