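import Cfsg.Agent.Lib.LocalEven.OnePointFront.Data
import Cfsg.Agent.Lib.LocalEven.TIEndgame.Classify
import Cfsg.Agent.Lib.Involution.ZStar.Main

/-!
# A full bad involution gives full data

Everything except that the members of a 2-group commuting with a bad involution commute with each
other, which is a property of its line and is taken as a hypothesis (`PairComm`).
-/

set_option autoImplicit false
set_option linter.unusedSectionVars false

namespace CfsgLib.LocalEven.OnePointFront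

open MulAction CfsgLib.LocalEven.TIEndgame CfsgLib.Involution

universe u

variable {G Ω : Type u} [Group G] [MulAction G Ω]

/-- Members of a 2-group at a point centralised by a bad involution commute. -/
def PairComm (D : Set G) (Ω : Type u) [MulAction G Ω] : Prop :=
  ∀ (x : G) (a : Ω) (P : Subgroup G), IsBad Ω x → x • a = a → IsPGroup 2 P →
    P ≤ stabilizer G a → ∀ d ∈ D, d ∈ P → ∀ e ∈ D, e ∈ P → Commute x d → Commute x e → Commute d e

/-- The identity and the members of `P`, as a subgroup when these commute. -/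
def memberGroup (D : Set G) (P : Subgroup G) : Subgroup G := Subgroup.closure (D ∩ (P : Set G))

namespace ClosedSetting

variable [Finite G] {D : Set G} (h : ClosedSetting D Ω)
include h

theorem notMem_of_bad {x : G} (hx : IsBad Ω x) : x ∉ D := by
  intro hxD
  obtain ⟨-, a, b, hab, ha, hb⟩ := hx
  exact hab (h.fixed_unique x hxD a b ha hb)

/-- Members at two points commuting with `x` are conjugate by an element commuting with `x`. -/
theorem exists_conj_commute {x d e : G} {p q : Ω} (hd : d ∈ dat D p) (he : e ∈ dat D q)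
    (hpq : p ≠ q) (hxd : Commute x d) (hxe : Commute x e) :
    ∃ g : G, Commute x g ∧ g * d * g⁻¹ = e := by
  obtain ⟨g, hg, hge⟩ := Dihedral.exists_conj_of_odd (h.orderOf_eq d hd.1) (h.orderOf_eq e he.1)
    (h.toOnePoint.odd_of_ne hd he hpq)
  obtain ⟨i, rfl⟩ := Subgroup.mem_zpowers_iff.1 hg
  exact ⟨_, (hxd.mul_right hxe).zpow_right i, hge⟩

variable [FaithfulSMul G Ω]

/-- A bad involution times some member commuting with it is bad. -/
theorem exists_bad_mul [Finite Ω] {x : G} (hx : IsBad Ω x) :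
    ∃ (f : G) (p : Ω), f ∈ dat D p ∧ x • p = p ∧ Commute x f ∧ IsBad Ω (x * f) := by
  obtain ⟨c, hc⟩ : ∃ c : Ω, x • c ≠ c := by
    by_contra hall
    push Not at hall
    exact Dihedral.ne_one hx.1 (FaithfulSMul.eq_of_smul_eq_smul (α := Ω) fun c => by
      rw [hall c, one_smul])
  obtain ⟨e, he⟩ := OnePoint.dat_nonempty h.covers c
  have hxx : x * x = 1 := Dihedral.mul_self hx.1
  have he' : x * e * x⁻¹ ∈ dat D (x • c) := h.toOnePoint.conj_mem_dat x he
  obtain ⟨f, ⟨hfD, hfe⟩, huniq⟩ := h.toOnePoint.existsUnique_middle he he' (Ne.symm hc)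
  have hff : f * f = 1 := h.toOnePoint.mul_self hfD
  have hfx : Commute x f := by
    have h1 : x * f * x⁻¹ = f := by
      refine huniq _ ⟨h.conj_mem x f hfD, ?_⟩
      have h2 : f * (x * e * x⁻¹) * f⁻¹ = e := by
        rw [← hfe, h.toOnePoint.inv_eq hfD, ← mul_assoc, ← mul_assoc, hff, one_mul, mul_assoc,
          hff, mul_one]
      calc x * f * x⁻¹ * e * (x * f * x⁻¹)⁻¹ = x * (f * (x⁻¹ * e * x) * f⁻¹) * x⁻¹ := by group
        _ = x * (f * (x * e * x⁻¹) * f⁻¹) * x⁻¹ := by rw [Dihedral.inv_eq hx.1]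
        _ = x * e * x⁻¹ := by rw [h2]
    exact mul_inv_eq_iff_eq_mul.1 h1
  have hfc : f • c = x • c := h.toOnePoint.smul_eq_of_conj_eq he he' hfe
  obtain ⟨p, hp⟩ := h.exists_fixed f hfD
  have hxp : x • p = p := h.toOnePoint.fix_of_commute hfD hp hfx.symm
  have hne : p ≠ c := fun e => hc (e ▸ hxp)
  refine ⟨f, p, ⟨hfD, hp⟩, hxp, hfx, ?_, p, c, hne, ?_, ?_⟩
  · refine orderOf_eq_prime ?_ fun e => ?_
    · rw [pow_two, hfx.symm.mul_mul_mul_comm, hxx, hff, one_mul]
    · refine h.notMem_of_bad hx ?_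
      rw [mul_eq_one_iff_eq_inv.1 e, h.toOnePoint.inv_eq hfD]
      exact hfD
  · rw [mul_smul, hp, hxp]
  · rw [mul_smul, hfc, ← mul_smul, hxx, one_smul]

/-- A bad involution times any member commuting with it is bad. -/
theorem bad_mul_member [Finite Ω] {x r : G} {a : Ω} (hx : IsBad Ω x) (hxa : x • a = a)
    (hr : r ∈ dat D a) (hxr : Commute x r) : IsBad Ω (x * r) := by
  obtain ⟨f, p, hf, hxp, hxf, hbad⟩ := h.exists_bad_mul hx
  have key : ∃ g : G, Commute x g ∧ g * f * g⁻¹ = r := by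
    by_cases hpa : p = a
    · subst hpa
      obtain ⟨-, u, v, huv, hu, hv⟩ := id hx
      obtain ⟨b, hb, hbp⟩ : ∃ b, x • b = b ∧ b ≠ p := by
        by_cases hup : u = p
        · exact ⟨v, hv, fun e => huv (hup.trans e.symm)⟩
        · exact ⟨u, hu, hup⟩
      obtain ⟨d, hd, hxd⟩ := OnePoint.exists_dat_commute (D := D) h.covers hx.1 hb
      obtain ⟨g₁, hg₁, he₁⟩ := h.exists_conj_commute hf hd (Ne.symm hbp) hxf hxd
      obtain ⟨g₂, hg₂, he₂⟩ := h.exists_conj_commute hd hr hbp hxd hxr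
      exact ⟨g₂ * g₁, hg₂.mul_right hg₁, by rw [← he₂, ← he₁]; group⟩
    · exact h.exists_conj_commute hf hr hpa hxf hxr
  obtain ⟨g, hg, hgf⟩ := key
  have h1 := isBad_conj g hbad
  rwa [show g * (x * f) * g⁻¹ = x * r by
    rw [← hgf, show g * (x * f) * g⁻¹ = (g * x * g⁻¹) * (g * f * g⁻¹) by group, hg.symm.eq,
      mul_inv_cancel_right]] at h1

/-- A maximal 2-subgroup at a point contains a member centralising it. -/
theorem exists_central_member {a : Ω} {P : Subgroup G} (hP : IsTopTwo P a) :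
    ∃ z ∈ dat D a, z ∈ P ∧ ∀ y ∈ P, Commute y z := by
  obtain ⟨z, hz, hcz⟩ := h.covers a P hP.1 hP.2.1
  refine ⟨z, hz, ?_, hcz⟩
  have hn : Subgroup.zpowers z ≤ Subgroup.normalizer (P : Set G) := by
    rw [Subgroup.zpowers_le, Subgroup.mem_normalizer_iff]
    intro y
    constructor
    · intro hy
      rwa [← (hcz y hy).eq, mul_inv_cancel_right]
    · intro hy
      have h1 := (hcz _ hy).eq
      have h2 : y = z * y * z⁻¹ := by
        calc y = z⁻¹ * ((z * y * z⁻¹) * z) := by group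
          _ = z⁻¹ * (z * (z * y * z⁻¹)) := by rw [h1]
          _ = z * y * z⁻¹ := by group
      rw [h2]
      exact hy
  have h2 : IsPGroup 2 ↥(P ⊔ Subgroup.zpowers z) := IsPGroup.to_sup_of_normal_left' hP.1
    (Basic.isPGroup_zpowers_of_two (h.orderOf_eq z hz.1)) hn
  have h3 := hP.2.2 _ h2 (sup_le hP.2.1 (Subgroup.zpowers_le.2 (mem_stabilizer_iff.2 hz.2)))
    le_sup_left
  rw [← h3]
  exact Subgroup.mem_sup_right (Subgroup.mem_zpowers z)

variable [Finite Ω]

/-- A maximal 2-subgroup at a point is a Sylow 2-subgroup of the group. -/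
theorem exists_sylow {a : Ω} {P : Subgroup G} (hP : IsTopTwo P a) :
    ∃ S : Sylow 2 G, (S : Subgroup G) = P := by
  obtain ⟨z, hz, hzP, -⟩ := h.exists_central_member hP
  obtain ⟨S, hS⟩ := hP.1.exists_le_sylow
  exact ⟨S, hP.2.2 _ S.2 (h.toOnePoint.le_stabilizer h.covers S.2 hz (hS hzP)) hS⟩

/-- A 2-group of a stabiliser containing all members of a maximal one has no further members. -/
theorem mem_of_top {a : Ω} {P R S : Subgroup G} (hP : IsTopTwo P a)
    (hmem : ∀ d : G, d ∈ R ↔ d = 1 ∨ (d ∈ D ∧ d ∈ P)) (hS : IsPGroup 2 S)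
    (hRS : R ≤ S) {d : G} (hd : d ∈ D) (hdS : d ∈ S) : d ∈ R := by
  obtain ⟨T, hT⟩ := h.exists_sylow hP
  obtain ⟨S', hS'⟩ := hS.exists_le_sylow
  obtain ⟨g, hg⟩ := MulAction.exists_smul_eq G T S'
  let A : Set G := D ∩ (P : Set G)
  let B : Set G := D ∩ ((S' : Subgroup G) : Set G)
  have hAB : A ⊆ B := fun y hy => ⟨hy.1, hS' (hRS ((hmem y).2 (Or.inr hy)))⟩
  have hcard : B.ncard ≤ A.ncard := by
    refine Set.ncard_le_ncard_of_injOn (fun y => g⁻¹ * y * g) ?_ ?_ A.toFinite
    · rintro y ⟨hy, hyS⟩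
      refine ⟨?_, ?_⟩
      · have h1 := h.conj_mem g⁻¹ y hy
        rwa [inv_inv] at h1
      · have h1 : y ∈ ((g • T : Sylow 2 G) : Subgroup G) := by rw [hg]; exact hyS
        have h2 := (Basic.mem_smul_sylow_iff (g := g) (P := T)).1 h1
        rw [SetLike.mem_coe, ← hT]
        exact h2
    · intro y _ y' _ hyy
      exact mul_left_cancel (mul_right_cancel hyy)
  have heq : A = B := Set.eq_of_subset_of_ncard_le hAB hcard B.toFinite
  exact (hmem d).2 (Or.inr (show d ∈ A from heq ▸ ⟨hd, hS' hdS⟩))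

/-- A single member in a maximal 2-subgroup excludes bad involutions in it. -/
theorem exists_two_members (hgen : Subgroup.closure D = ⊤) {a : Ω} {P : Subgroup G}
    (hP : IsTopTwo P a) {x z : G} (hx : IsBad Ω x) (hz : z ∈ D) (hzP : z ∈ P)
    (hxz : Commute x z) : ∃ d ∈ D, d ∈ P ∧ d ≠ z := by
  by_contra hone
  push Not at hone
  obtain ⟨S, hS⟩ := h.exists_sylow hP
  have hz2 := h.orderOf_eq z hz
  haveI : Nontrivial Ω := by
    obtain ⟨-, p, q, hpq, -, -⟩ := hx
    exact ⟨p, q, hpq⟩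
  have hiso : Cfsg.IsIsolatedInvolution z := by
    refine ⟨hz2, fun g hg => ?_⟩
    obtain ⟨k, hk1, hk2⟩ := Basic.exists_conj_pair_mem S hz2
      ((Dihedral.orderOf_conj g z).trans hz2) hg
    replace hk1 : k * z * k⁻¹ ∈ P := hS ▸ hk1
    replace hk2 : k * (g * z * g⁻¹) * k⁻¹ ∈ P := hS ▸ hk2
    have e1 := hone _ (h.conj_mem k z hz) hk1
    have e2 := hone _ (h.conj_mem k _ (h.conj_mem g z hz)) hk2
    exact mul_left_cancel (mul_right_cancel (e2.trans e1.symm))
  haveI : (Cfsg.oddCore G).Normal := ZStar.oddCore_normal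
  have hD : ∀ d ∈ D, (d : G ⧸ Cfsg.oddCore G) = z := by
    intro d hd
    obtain ⟨g, hg⟩ := isConj_iff.1 (h.toOnePoint.isConj_members h.covers hz hd)
    rw [QuotientGroup.eq, ← hg]
    have h1 := inv_mem (ZStar.comm_mem_oddCore hiso g)
    rw [show (z * g * z⁻¹ * g⁻¹)⁻¹ = g * z * g⁻¹ * z⁻¹ by group] at h1
    rw [show (g * z * g⁻¹)⁻¹ * z = g * z⁻¹ * g⁻¹ * z by group]
    rwa [h.toOnePoint.inv_eq hz] at h1 ⊢
  have hle : Subgroup.closure D ≤
      (Subgroup.zpowers (z : G ⧸ Cfsg.oddCore G)).comap (QuotientGroup.mk' _) :=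
    (Subgroup.closure_le _).2 fun d hd => Subgroup.mem_comap.2 (by
      rw [QuotientGroup.mk'_apply, hD d hd]; exact Subgroup.mem_zpowers _)
  rw [hgen] at hle
  obtain ⟨i, hi⟩ := Subgroup.mem_zpowers_iff.1 (Subgroup.mem_comap.1 (hle (Subgroup.mem_top x)))
  have hxx : x * x = 1 := Dihedral.mul_self hx.1
  have hzz : z * z = 1 := h.toOnePoint.mul_self hz
  have hcase : x ∈ Cfsg.oddCore G ∨ x * z ∈ Cfsg.oddCore G := by
    rw [QuotientGroup.mk'_apply, ← QuotientGroup.mk_zpow] at hi
    rcases Int.even_or_odd i with ⟨k, rfl⟩ | ⟨k, rfl⟩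
    · left
      rw [← two_mul, zpow_mul, zpow_two, hzz, one_zpow] at hi
      exact (QuotientGroup.eq_one_iff x).1 hi.symm
    · right
      rw [zpow_add, zpow_mul, zpow_two, hzz, one_zpow, one_mul, zpow_one] at hi
      rw [← QuotientGroup.eq_one_iff, QuotientGroup.mk_mul, ← hi, ← QuotientGroup.mk_mul, hzz,
        QuotientGroup.mk_one]
  rcases hcase with hc | hc
  · have := ZStar.odd_orderOf_of_mem hc
    rw [hx.1] at this
    exact absurd this (by decide)
  · have h1 : orderOf (x * z) ∣ 2 :=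
      orderOf_dvd_of_pow_eq_one (by rw [pow_two, hxz.symm.mul_mul_mul_comm, hxx, hzz, one_mul])
    have h2 := ZStar.odd_orderOf_of_mem hc
    rcases (Nat.dvd_prime Nat.prime_two).1 h1 with e | e
    · exact h.notMem_of_bad hx (by
        rw [mul_eq_one_iff_eq_inv.1 (orderOf_eq_one_iff.1 e), h.toOnePoint.inv_eq hz]; exact hz)
    · rw [e] at h2
      exact absurd h2 (by decide)

end ClosedSetting

namespace FrontMin

variable [Finite G] [Finite Ω] [FaithfulSMul G Ω] {D : Set G} (h : FrontMin G Ω D)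
include h

/-- A full bad involution gives full data. -/
theorem exists_fullData (hpair : PairComm D Ω) {x : G} (hx : IsFullBad D Ω x) :
    ∃ (a : Ω) (R P : Subgroup G), FullData D a x R P := by
  obtain ⟨hbad, a, P, hP, hxP, hcomm⟩ := hx
  have hxa : x • a = a := mem_stabilizer_iff.1 (hP.2.1 hxP)
  have hcc : ∀ d ∈ D, d ∈ P → ∀ e ∈ D, e ∈ P → Commute d e := fun d hd hdP e he heP =>
    hpair x a P hbad hxa hP.1 hP.2.1 d hd hdP e he heP (hcomm d hd hdP) (hcomm e he heP)
  have hmul : ∀ d ∈ D, d ∈ P → d * d = 1 := fun d hd _ => h.toOnePoint.mul_self hd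
  let R : Subgroup G :=
    { carrier := {d | d = 1 ∨ (d ∈ D ∧ d ∈ P)}
      one_mem' := Or.inl rfl
      mul_mem' := by
        rintro d e (rfl | ⟨hd, hdP⟩) he
        · rwa [one_mul]
        rcases he with rfl | ⟨he, heP⟩
        · rw [mul_one]; exact Or.inr ⟨hd, hdP⟩
        by_cases hde : d * e = 1
        · exact Or.inl hde
        refine Or.inr ⟨h.closed P hP.1 _ ?_ (orderOf_eq_prime ?_ hde), mul_mem hdP heP⟩
        · exact mul_mem (Subgroup.subset_closure ⟨hd, hdP⟩) (Subgroup.subset_closure ⟨he, heP⟩)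
        · rw [pow_two, ((hcc d hd hdP e he heP).symm).mul_mul_mul_comm, hmul d hd hdP,
            hmul e he heP, one_mul]
      inv_mem' := by
        rintro d (rfl | ⟨hd, hdP⟩)
        · exact Or.inl inv_one
        · rw [Set.mem_ofPred_eq, h.toOnePoint.inv_eq hd]; exact Or.inr ⟨hd, hdP⟩ }
  have hmem : ∀ d : G, d ∈ R ↔ d = 1 ∨ (d ∈ D ∧ d ∈ P) := fun d => Iff.rfl
  obtain ⟨z, hz, hzP, -⟩ := h.toClosedSetting.exists_central_member hP
  have hRsq : ∀ r ∈ R, r * r = 1 := by
    rintro r (rfl | ⟨hr, hrP⟩)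
    · exact one_mul 1
    · exact hmul r hr hrP
  have hfix : ∀ d ∈ D, d ∈ P → d ∈ dat D a := fun d hd hdP =>
    ⟨hd, mem_stabilizer_iff.1 (hP.2.1 hdP)⟩
  refine ⟨a, R, P, ?_⟩
  exact
    { bad := hbad
      fix := hxa
      top := hP
      mem := hxP
      le := by
        rintro r (rfl | ⟨-, hrP⟩)
        · exact one_mem P
        · exact hrP
      mem_iff := hmem
      sq := hRsq
      comm := by
        rintro r (rfl | ⟨hr, hrP⟩)
        · exact Commute.one_right x
        · exact hcomm r hr hrP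
      four := by
        obtain ⟨d, hd, hdP, hdz⟩ := h.toClosedSetting.exists_two_members h.gen hP hbad hz.1 hzP
          (hcomm z hz.1 hzP)
        haveI : Fact (Nat.Prime 2) := ⟨Nat.prime_two⟩
        have h2 : IsPGroup 2 R := fun r => ⟨1, Subtype.ext (by
          rw [pow_one, SubgroupClass.coe_pow, pow_two]
          exact hRsq r r.2)⟩
        obtain ⟨k, hk⟩ := h2.exists_card_eq
        classical
        haveI : Fintype R := Fintype.ofFinite R
        have h1 : ∀ {y : G}, y ∈ D → y ≠ 1 := fun hy => Dihedral.ne_one (h.orderOf_eq _ hy)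
        have h3 : ({1, ⟨z, Or.inr ⟨hz.1, hzP⟩⟩, ⟨d, Or.inr ⟨hd, hdP⟩⟩} : Finset R).card = 3 :=
          Finset.card_eq_three.2 ⟨_, _, _, fun e => h1 hz.1 (congrArg Subtype.val e).symm,
            fun e => h1 hd (congrArg Subtype.val e).symm,
            fun e => hdz (congrArg Subtype.val e).symm, rfl⟩
        have h4 := Finset.card_le_univ
          ({1, ⟨z, Or.inr ⟨hz.1, hzP⟩⟩, ⟨d, Or.inr ⟨hd, hdP⟩⟩} : Finset R)
        rw [h3, ← Nat.card_eq_fintype_card, hk] at h4
        rw [hk]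
        rcases k with - | - | k
        · norm_num at h4
        · norm_num at h4
        · rw [pow_succ, pow_succ]
          have : 1 ≤ 2 ^ k := Nat.one_le_two_pow
          omega
      bad_mul := by
        rintro r (rfl | ⟨hr, hrP⟩)
        · rwa [mul_one]
        · exact h.toClosedSetting.bad_mul_member hbad hxa (hfix r hr hrP) (hcomm r hr hrP)
      maximal := fun S hS _ hRS d hd hdS => h.toClosedSetting.mem_of_top hP hmem hS hRS hd hdS }

end FrontMin

end CfsgLib.LocalEven.OnePointFront
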