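import Cfsg.Agent.Lib.LocalEven.OnePointFront.Kernel
import Cfsg.Agent.Lib.LocalEven.OnePointFront.Full
import Cfsg.Agent.Lib.LocalEven.OnePointFront.Local.OddIn
import Cfsg.Agent.Lib.Coprime.Sylow
import Cfsg.Agent.Lib.Coprime.Generation

/-!
# Tools for the kernel of a line

`SplitAt D Ω H a` says that on the points of `H` the stabiliser of `a` in `coreOf D H` has a
normal 2-part, transitive on the other points.  An element of odd order at `a` normalising `H`
whose commutators with that 2-part have odd order then fixes every point of `H`.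
-/

set_option autoImplicit false
set_option linter.style.haveILetI false
set_option linter.unusedSectionVars false

namespace CfsgLib.LocalEven.OnePointFront

open MulAction CfsgLib.LocalEven.TIEndgame CfsgLib.Involution

universe u

variable {G Ω : Type u} [Group G] [MulAction G Ω]

/-- The elements of `coreOf D H` at `a` of 2-power order on the points of `H` form a subgroup,
transitive on the other points. -/
def SplitAt (D : Set G) (Ω : Type u) [MulAction G Ω] (H : Subgroup G) (a : Ω) : Prop :=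
  ∃ Q : Subgroup G,
    (∀ q, q ∈ Q ↔ q ∈ coreOf D H ∧ q • a = a ∧ ∃ n : ℕ, ∀ c ∈ ptsOf D Ω H, (q ^ 2 ^ n) • c = c) ∧
      ∀ c ∈ ptsOf D Ω H, c ≠ a → ∀ d ∈ ptsOf D Ω H, d ≠ a → ∃ q ∈ Q, q • c = d

/-- The hypothesis on the lines: every proper core with two commuting members at a point splits
there. -/
def SplitHyp (D : Set G) (Ω : Type u) [MulAction G Ω] : Prop :=
  ∀ H : Subgroup G, coreOf D H ≠ ⊤ → ∀ a b : Ω, b ∈ ptsOf D Ω H → b ≠ a →
    ∀ r s : G, r ∈ D → r ∈ H → r • a = a → s ∈ D → s ∈ H → s • a = a → Commute r s → r ≠ s →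
      SplitAt D Ω H a

/-- Two members at a point commuting with a bad involution commute on its fixed points, if two
commuting members commute with it. -/
def LineComm (D : Set G) (Ω : Type u) [MulAction G Ω] : Prop :=
  ∀ y : G, IsBad Ω y → (∃ r ∈ D, ∃ s ∈ D, Commute y r ∧ Commute y s ∧ Commute r s ∧ r ≠ s) →
    ∀ c : Ω, ∀ d ∈ D, Commute y d → d • c = c → ∀ e ∈ D, Commute y e →
    e • c = c → ∀ p : Ω, y • p = p → (d * e) • p = (e * d) • p

theorem mem_fix_iff {H : Subgroup G} {s : Set Ω} {g : G} :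
    g ∈ H ⊓ fixingSubgroup G s ↔ g ∈ H ∧ ∀ c ∈ s, g • c = c := by
  rw [Subgroup.mem_inf, mem_fixingSubgroup_iff]

variable {D : Set G}

theorem mem_lineKer {x k : G} :
    k ∈ lineKer D Ω x ↔ k ∈ coreOf D (Subgroup.centralizer {x}) ∧ ∀ c : Ω, x • c = c → k • c = c := by
  rw [lineKer, mem_fix_iff]
  rfl

theorem commute_of_lineKer {x k : G} (hk : k ∈ lineKer D Ω x) : Commute x k :=
  (Subgroup.mem_centralizer_singleton_iff.1 (coreOf_le D _ (mem_lineKer.1 hk).1)).symm

theorem smul_eq_of_lineKer {x k : G} (hk : k ∈ lineKer D Ω x) {c : Ω} (hc : x • c = c) : k • c = c :=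
  (mem_lineKer.1 hk).2 c hc

section

variable (h : ClosedSetting D Ω)
include h

theorem conj_mem_coreOf {H : Subgroup G} {g y : G}
    (hg : ∀ z ∈ H, g * z * g⁻¹ ∈ H) (hy : y ∈ coreOf D H) : g * y * g⁻¹ ∈ coreOf D H := by
  have hle : coreOf D H ≤ (coreOf D H).comap (MulAut.conj g).toMonoidHom :=
    (Subgroup.closure_le _).2 fun d hd => mem_coreOf (h.conj_mem g d hd.1) (hg d hd.2)
  exact hle hy

theorem conj_mem_lineKer {x g k : G} (hg : Commute x g) (hk : k ∈ lineKer D Ω x) :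
    g * k * g⁻¹ ∈ lineKer D Ω x := by
  refine mem_lineKer.2 ⟨conj_mem_coreOf h (fun z hz => ?_) (mem_lineKer.1 hk).1, fun c hc => ?_⟩
  · refine Subgroup.mem_centralizer_singleton_iff.2 (Commute.eq ?_).symm
    exact (hg.mul_right (Subgroup.mem_centralizer_singleton_iff.1 hz).symm).mul_right hg.inv_right
  · rw [mul_smul, mul_smul,
      smul_eq_of_lineKer hk (c := g⁻¹ • c) (by rw [← mul_smul, hg.inv_right.eq, mul_smul, hc]),
      smul_inv_smul]

variable [Finite G]

/-- The core of `H` is transitive on its points. -/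
theorem exists_core_move {H : Subgroup G} {c c' : Ω} (hc : c ∈ ptsOf D Ω H)
    (hc' : c' ∈ ptsOf D Ω H) : ∃ g ∈ coreOf D H, g • c = c' := by
  by_cases hcc : c = c'
  · exact ⟨1, one_mem _, by rw [one_smul, hcc]⟩
  obtain ⟨d, hd, hdH, hdc⟩ := hc
  obtain ⟨e, he, heH, hec⟩ := hc'
  obtain ⟨g, hg, hge⟩ := Dihedral.exists_conj_of_odd (h.orderOf_eq d hd) (h.orderOf_eq e he)
    (h.toOnePoint.odd_of_ne ⟨hd, hdc⟩ ⟨he, hec⟩ hcc)
  exact ⟨g, Subgroup.zpowers_le.2 (mul_mem (mem_coreOf hd hdH) (mem_coreOf he heH)) hg,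
    h.toOnePoint.smul_eq_of_conj_eq ⟨hd, hdc⟩ ⟨he, hec⟩ hge⟩

/-- Two members at `a` commuting with `x` are conjugate in the core of `x` fixing `a`. -/
theorem exists_line_conj {x r s : G} {a b : Ω} (hx : orderOf x = 2) (hb : x • b = b) (hba : b ≠ a)
    (hr : r ∈ dat D a) (hxr : Commute x r) (hs : s ∈ dat D a) (hxs : Commute x s) :
    ∃ g ∈ coreOf D (Subgroup.centralizer {x}), g • a = a ∧ g * r * g⁻¹ = s := by
  obtain ⟨e, he, hxe⟩ := OnePoint.exists_dat_commute (D := D) h.covers hx hb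
  have hmem : ∀ {y : G}, y ∈ D → Commute x y → y ∈ coreOf D (Subgroup.centralizer {x}) := fun hy hxy =>
    mem_coreOf hy (Subgroup.mem_centralizer_singleton_iff.2 hxy.eq.symm)
  obtain ⟨g₁, hg₁, h₁⟩ := Dihedral.exists_conj_of_odd (h.orderOf_eq r hr.1) (h.orderOf_eq e he.1)
    (h.toOnePoint.odd_of_ne hr he hba.symm)
  obtain ⟨g₂, hg₂, h₂⟩ := Dihedral.exists_conj_of_odd (h.orderOf_eq e he.1) (h.orderOf_eq s hs.1)
    (h.toOnePoint.odd_of_ne he hs hba)
  have hconj : g₂ * g₁ * r * (g₂ * g₁)⁻¹ = s := by rw [← h₂, ← h₁]; group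
  refine ⟨g₂ * g₁, mul_mem
    (Subgroup.zpowers_le.2 (mul_mem (hmem he.1 hxe) (hmem hs.1 hxs)) hg₂)
    (Subgroup.zpowers_le.2 (mul_mem (hmem hr.1 hxr) (hmem he.1 hxe)) hg₁), ?_, hconj⟩
  exact h.toOnePoint.smul_eq_of_conj_eq hr hs hconj

/-- An odd element at `a` of `H` whose commutators with the 2-part of the split core are odd fixes
the points of `H`. -/
theorem fix_ptsOf_of_split {H : Subgroup G} {a : Ω} (hsplit : SplitAt D Ω H a) {j : G}
    (hjH : j ∈ H) (hja : j • a = a) (hjodd : Odd (orderOf j))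
    (hcomm : ∀ q : G, q ∈ coreOf D H → q • a = a →
      (∃ n : ℕ, ∀ c ∈ ptsOf D Ω H, (q ^ 2 ^ n) • c = c) →
      ∃ q' : G, q' ∈ coreOf D H ∧ (∀ c ∈ ptsOf D Ω H, q' • c = q • c) ∧ q' • a = a ∧
        Odd (orderOf (j * q' * j⁻¹ * q'⁻¹))) :
    ∀ c ∈ ptsOf D Ω H, j • c = c := by
  obtain ⟨Q, hQ, htrans⟩ := hsplit
  have hpts : ∀ g ∈ H, ∀ c ∈ ptsOf D Ω H, g • c ∈ ptsOf D Ω H := fun g hg c hc =>
    smul_mem_ptsOf h hg hc
  -- the element commutes with the 2-part on the points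
  have hc1 : ∀ q ∈ Q, ∀ c ∈ ptsOf D Ω H, j • (q • c) = q • (j • c) := by
    intro q hq c hc
    obtain ⟨hqL, hqa, n, hn⟩ := (hQ q).1 hq
    obtain ⟨q', hq'L, hagree, hq'a, hodd⟩ := hcomm q hqL hqa ⟨n, hn⟩
    have hq'H := coreOf_le D H hq'L
    have hqH := coreOf_le D H hqL
    have hpow : ∀ (i : ℕ) (c : Ω), c ∈ ptsOf D Ω H → (q' ^ i) • c = (q ^ i) • c := by
      intro i
      induction i with
      | zero => intro c _; simp
      | succ i ih =>
        intro c hc
        rw [pow_succ, pow_succ, mul_smul, mul_smul, hagree c hc]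
        exact ih _ (hpts q hqH c hc)
    have hq'Q : q' ∈ Q := (hQ q').2 ⟨hq'L, hq'a, n, fun c hc => by rw [hpow _ c hc, hn c hc]⟩
    have h1 : j * q' * j⁻¹ ∈ Q := by
      refine (hQ _).2 ⟨conj_mem_coreOf h (fun z hz => mul_mem (mul_mem hjH hz) (inv_mem hjH)) hq'L,
        ?_, n, fun c hc => ?_⟩
      · rw [mul_smul, mul_smul, inv_smul_eq_iff.2 hja.symm, hq'a, hja]
      · rw [conj_pow, mul_smul, mul_smul, hpow _ _ (hpts _ (inv_mem hjH) c hc),
          hn _ (hpts _ (inv_mem hjH) c hc), smul_inv_smul]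
    obtain ⟨-, -, m, hm⟩ := (hQ _).1 (mul_mem h1 (inv_mem hq'Q))
    set w := j * q' * j⁻¹ * q'⁻¹ with hw
    have hwH : w ∈ H := mul_mem (mul_mem (mul_mem hjH hq'H) (inv_mem hjH)) (inv_mem hq'H)
    have hwfix : ∀ p ∈ ptsOf D Ω H, w • p = p := by
      intro p hp
      obtain ⟨i, hi⟩ := hodd
      have hord : orderOf w = 2 * i + 1 := hi
      obtain ⟨u, v, huv⟩ := Int.isCoprime_iff_gcd_eq_one.2
        (show Int.gcd ((2 ^ m : ℕ) : ℤ) ((2 * i + 1 : ℕ) : ℤ) = 1 by
          rw [Int.gcd_natCast_natCast]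
          exact Nat.Coprime.pow_left m (Nat.coprime_two_left.2 ⟨i, rfl⟩))
      have hfix : w ^ 2 ^ m ∈ stabilizer G p := mem_stabilizer_iff.2 (hm p hp)
      have : w = (w ^ 2 ^ m) ^ u := by
        calc w = w ^ (u * ((2 ^ m : ℕ) : ℤ) + v * ((2 * i + 1 : ℕ) : ℤ)) := by rw [huv, zpow_one]
          _ = (w ^ 2 ^ m) ^ u := by
            rw [zpow_add, mul_comm u, mul_comm v, zpow_mul, zpow_mul, zpow_natCast, zpow_natCast,
              ← hord, pow_orderOf_eq_one, one_zpow, mul_one]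
      rw [this]
      exact mem_stabilizer_iff.1 (zpow_mem hfix u)
    rw [← hagree c hc, ← hagree _ (hpts j hjH c hc)]
    have hp : q' • (j • c) ∈ ptsOf D Ω H := hpts q' hq'H _ (hpts j hjH c hc)
    calc j • (q' • c) = w • (q' • (j • c)) := by
          rw [← mul_smul, ← mul_smul, ← mul_smul]
          exact congrArg (· • c) (by rw [hw]; group)
      _ = q' • (j • c) := hwfix _ hp
  intro c hc
  by_cases hca : c = a
  · rw [hca, hja]
  have hjc : j • c ≠ a := fun e => hca (smul_left_cancel j (e.trans hja.symm))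
  obtain ⟨q, hq, hqc⟩ := htrans c hc hca _ (hpts j hjH c hc) hjc
  obtain ⟨hqL, -, n, hn⟩ := (hQ q).1 hq
  have hqH := coreOf_le D H hqL
  have hiter : ∀ i : ℕ, (j ^ i) • c = (q ^ i) • c := by
    intro i
    induction i with
    | zero => simp
    | succ i ih =>
      have hq' : q ^ i ∈ Q := pow_mem hq i
      rw [pow_succ', mul_smul, ih, hc1 _ hq' c hc, ← hqc, ← mul_smul, ← pow_succ]
  have hm : (q ^ orderOf j) • c = c := by rw [← hiter, pow_orderOf_eq_one, one_smul]
  obtain ⟨i, hi⟩ := hjodd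
  obtain ⟨u, v, huv⟩ := Int.isCoprime_iff_gcd_eq_one.2
    (show Int.gcd ((2 ^ n : ℕ) : ℤ) ((2 * i + 1 : ℕ) : ℤ) = 1 by
      rw [Int.gcd_natCast_natCast]
      exact Nat.Coprime.pow_left n (Nat.coprime_two_left.2 ⟨i, rfl⟩))
  have hqfix : q ∈ stabilizer G c := by
    have : q = (q ^ 2 ^ n) ^ u * (q ^ orderOf j) ^ v := by
      calc q = q ^ (u * ((2 ^ n : ℕ) : ℤ) + v * ((2 * i + 1 : ℕ) : ℤ)) := by rw [huv, zpow_one]
        _ = _ := by
          rw [zpow_add, mul_comm u, mul_comm v, zpow_mul, zpow_mul, zpow_natCast, zpow_natCast, hi]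
    rw [this]
    exact mul_mem (zpow_mem (mem_stabilizer_iff.2 (hn c hc)) u) (zpow_mem (mem_stabilizer_iff.2 hm) v)
  rw [← hqc]
  exact mem_stabilizer_iff.1 hqfix

/-- A member commuting with `x` carries a point not fixed by `x` onto the fixed points of their
product. -/
theorem exists_middle_fix {x : G} (hx : orderOf x = 2) {c : Ω} (hc : x • c ≠ c) :
    ∃ (f : G) (p : Ω), f ∈ dat D p ∧ Commute x f ∧ x • p = p ∧ (x * f) • c = c := by
  have hxx : x * x = 1 := Dihedral.mul_self hx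
  obtain ⟨e, he⟩ := OnePoint.dat_nonempty h.covers c
  have he' : x * e * x⁻¹ ∈ dat D (x • c) := h.toOnePoint.conj_mem_dat x he
  obtain ⟨f, ⟨hfD, hfe⟩, huniq⟩ := h.toOnePoint.existsUnique_middle he he' (Ne.symm hc)
  have hff : f * f = 1 := h.toOnePoint.mul_self hfD
  have hfx : Commute x f := by
    have h1 : x * f * x⁻¹ = f := by
      refine huniq _ ⟨h.conj_mem x f hfD, ?_⟩
      have h2 : f * (x * e * x⁻¹) * f⁻¹ = e := by
        rw [← hfe, h.toOnePoint.inv_eq hfD, ← mul_assoc, ← mul_assoc, hff, one_mul, mul_assoc,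
          hff, mul_one]
      calc x * f * x⁻¹ * e * (x * f * x⁻¹)⁻¹ = x * (f * (x⁻¹ * e * x) * f⁻¹) * x⁻¹ := by group
        _ = x * (f * (x * e * x⁻¹) * f⁻¹) * x⁻¹ := by rw [Dihedral.inv_eq hx]
        _ = x * e * x⁻¹ := by rw [h2]
    exact mul_inv_eq_iff_eq_mul.1 h1
  obtain ⟨p, hp⟩ := h.exists_fixed f hfD
  refine ⟨f, p, ⟨hfD, hp⟩, hfx, h.toOnePoint.fix_of_commute hfD hp hfx.symm, ?_⟩
  rw [mul_smul, h.toOnePoint.smul_eq_of_conj_eq he he' hfe, ← mul_smul, hxx, one_smul]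

end

/-- The four-group generation: the centralisers of `x`, `s` and `x * s` generate an odd group. -/
theorem le_of_four [Finite G] {K T : Subgroup G} {x s : G} (hx : x * x = 1) (hs : s * s = 1)
    (hxs : Commute x s) (hx1 : x ≠ 1) (hs1 : s ≠ 1) (hne : x ≠ s) (hodd : Odd (Nat.card K))
    (hxK : x ∈ Subgroup.normalizer (K : Set G)) (hsK : s ∈ Subgroup.normalizer (K : Set G))
    (hTx : K ⊓ Subgroup.centralizer {x} ≤ T) (hTs : K ⊓ Subgroup.centralizer {s} ≤ T)
    (hTxs : K ⊓ Subgroup.centralizer {x * s} ≤ T) : K ≤ T := by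
  haveI : Fact (Nat.Prime 2) := ⟨Nat.prime_two⟩
  set A : Subgroup G :=
    { carrier := {g | g = 1 ∨ g = x ∨ g = s ∨ g = x * s}
      one_mem' := Or.inl rfl
      mul_mem' := by
        have h3 : x * (x * s) = s := by rw [← mul_assoc, hx, one_mul]
        have h4 : s * (x * s) = x := by rw [hxs.eq, ← mul_assoc, hs, one_mul]
        have h5 : x * s * x = s := by rw [hxs.eq, mul_assoc, hx, mul_one]
        have h6 : x * s * s = x := by rw [mul_assoc, hs, mul_one]
        have h7 : x * s * (x * s) = 1 := by rw [← mul_assoc, h5, hs]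
        rintro g g' (rfl | rfl | rfl | rfl) (rfl | rfl | rfl | rfl) <;>
          simp [hx, hs, h3, h4, h5, h6, h7, hxs.eq.symm]
      inv_mem' := by
        rintro g (rfl | rfl | rfl | rfl)
        · simp
        · exact Or.inr (Or.inl (inv_eq_of_mul_eq_one_right hx))
        · exact Or.inr (Or.inr (Or.inl (inv_eq_of_mul_eq_one_right hs)))
        · exact Or.inr (Or.inr (Or.inr (by rw [mul_inv_rev, inv_eq_of_mul_eq_one_right hx,
            inv_eq_of_mul_eq_one_right hs, hxs.eq]))) } with hA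
  have hcomm : ∀ g ∈ A, ∀ g' ∈ A, g * g' = g' * g := by
    have : A ≤ Subgroup.centralizer (A : Set G) := by
      intro g hg
      refine Subgroup.mem_centralizer_iff.2 fun g' hg' => ?_
      rcases hg with rfl | rfl | rfl | rfl <;> rcases hg' with rfl | rfl | rfl | rfl <;>
        first
          | simp
          | exact hxs.eq
          | exact hxs.eq.symm
          | exact ((Commute.refl _).mul_right hxs).eq
          | exact ((Commute.refl _).mul_right hxs).eq.symm
          | exact (hxs.symm.mul_right (Commute.refl _)).eq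
          | exact (hxs.symm.mul_right (Commute.refl _)).eq.symm
    intro g hg g' hg'
    exact (Subgroup.mem_centralizer_iff.1 (this hg') g hg)
  haveI : IsMulCommutative A := ⟨⟨fun g g' => Subtype.ext (hcomm g g.2 g' g'.2)⟩⟩
  have hsq : ∀ g : A, g * g = 1 := by
    rintro ⟨g, hg⟩
    refine Subtype.ext ?_
    show g * g = 1
    rcases hg with rfl | rfl | rfl | rfl
    · exact one_mul 1
    · exact hx
    · exact hs
    · rw [hxs.symm.mul_mul_mul_comm, hx, hs, one_mul]
  have hxA : x ∈ A := Or.inr (Or.inl rfl)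
  have hsA : s ∈ A := Or.inr (Or.inr (Or.inl rfl))
  have hnc : ¬ IsCyclic A := by
    rintro ⟨g, hg⟩
    have key : ∀ y : A, y = 1 ∨ y = g := fun y => by
      obtain ⟨i, rfl⟩ := Subgroup.mem_zpowers_iff.1 (hg y)
      rcases Int.even_or_odd i with ⟨l, rfl⟩ | ⟨l, rfl⟩
      · exact Or.inl (by rw [← two_mul, zpow_mul, zpow_two, hsq, one_zpow])
      · exact Or.inr (by rw [zpow_add, zpow_mul, zpow_two, hsq, one_zpow, one_mul, zpow_one])
    rcases key ⟨x, hxA⟩ with e | e
    · exact hx1 (congrArg Subtype.val e)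
    rcases key ⟨s, hsA⟩ with e' | e'
    · exact hs1 (congrArg Subtype.val e')
    exact hne (congrArg Subtype.val (e.trans e'.symm))
  have hA2 : IsPGroup 2 A := fun g => ⟨1, by rw [pow_one, pow_two, hsq]⟩
  have hcop : (Nat.card A).Coprime (Nat.card K) := by
    obtain ⟨i, hi⟩ := hA2.exists_card_eq
    rw [hi]
    exact Nat.Coprime.pow_left i (Nat.coprime_two_left.2 hodd)
  have hAK : A ≤ Subgroup.normalizer (K : Set G) := by
    rintro g (rfl | rfl | rfl | rfl)
    exacts [one_mem _, hxK, hsK, mul_mem hxK hsK]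
  rw [← Coprime.iSup_centralizer_singleton hnc hAK hcop]
  refine iSup₂_le ?_
  rintro g ⟨(rfl | rfl | rfl | rfl), hg1⟩
  exacts [absurd rfl hg1, hTx, hTs, hTxs]

end CfsgLib.LocalEven.OnePointFront
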