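import Cfsg.Agent.Lib.LocalEven.OnePointFront.Line
import Cfsg.Agent.Lib.LocalEven.OnePointFront.LineKernelTools

/-!
# The hypotheses on lines in a least configuration

Two members at a point commuting with a bad involution commute on its fixed points, and every proper
core with two commuting members at a point splits there.
-/

set_option autoImplicit false
set_option linter.style.haveILetI false

namespace CfsgLib.LocalEven.OnePointFront

open MulAction CfsgLib.LocalEven.TIEndgame CfsgLib.Involution CfsgLib.RankOne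

universe u

variable {G Ω : Type u} [Group G] [Finite G] [Finite Ω] [MulAction G Ω] [FaithfulSMul G Ω] {D : Set G}

/-- Proper cores with two commuting members at a point split there. -/
theorem FrontMin.splitHyp (h : FrontMin G Ω D) : SplitHyp D Ω := by
  intro H hne a b hb hba r s hr hrH hra hs hsH hsa hrs hne'
  have hC : ClosedSetting D Ω := h.toClosedSetting
  have L : LineAt D H a b :=
    ⟨hne, ⟨r, hr, hrH, hra⟩, hb, hba.symm, r, ⟨hr, hra⟩, s, ⟨hs, hsa⟩, hrH, hsH, hne', hrs⟩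
  obtain ⟨h2, t, Q, hS⟩ := L.exists_setup h
  have hQ2 := isPGroup_Q hS h2
  refine ⟨(Q.comap (hC.rho H)).map (coreOf D H).subtype, fun q => ⟨?_, ?_⟩, fun c hc hca d hd hda => ?_⟩
  · rintro ⟨y, hy, rfl⟩
    obtain ⟨n, hn⟩ := hQ2 ⟨hC.rho H y, hy⟩
    refine ⟨y.2, hC.rho_fix_iff.1 (mem_stabilizer_iff.1 (hS.le hy) :
      hC.rho H y • (⟨a, L.ha⟩ : ↥(hC.coreAct H)) = ⟨a, L.ha⟩), n, fun c hc => ?_⟩
    have h1 : hC.rho H (y ^ 2 ^ n) = 1 := by
      rw [map_pow]; exact congrArg Subtype.val hn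
    exact hC.rho_eq_one.1 h1 c hc
  · rintro ⟨hq, hqa, n, hn⟩
    refine ⟨⟨q, hq⟩, ?_, rfl⟩
    exact TIEndgame.Line.mem_of_two_power hS (hC.rho_fix_iff.2 hqa) (k := n)
      (by rw [← map_pow]; exact hC.rho_eq_one.2 hn)
  · obtain ⟨x, ⟨hxc, hxa, k, hk⟩, hxe⟩ := L.exists_translation h hc hca hd hda
    refine ⟨x, ⟨⟨x, hxc⟩, ?_, rfl⟩, hxe⟩
    exact TIEndgame.Line.mem_of_two_power hS (hC.rho_fix_iff.2 hxa) (k := k)
      (by
        rw [← map_pow]
        refine hC.rho_eq_one.2 fun p _ => ?_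
        show (x ^ 2 ^ k) • p = p
        rw [hk, one_smul])

/-- Members at a point commuting with a bad involution commute on its fixed points, if two commuting
members commute with it. -/
theorem FrontMin.lineComm (h : FrontMin G Ω D) : LineComm D Ω := by
  intro y hy htwo c d hd hyd hdc e he hye hec p hp
  obtain ⟨r, hr, s, hs, hyr, hys, hrs, hne⟩ := htwo
  have hC : ClosedSetting D Ω := h.toClosedSetting
  set H := Subgroup.centralizer ({y} : Set G) with hH
  have hmem : ∀ {g : G}, Commute y g → g ∈ H := fun hg =>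
    Subgroup.mem_centralizer_singleton_iff.2 hg.eq.symm
  have hpts : ∀ {q : Ω}, y • q = q → q ∈ ptsOf D Ω H := fun hq => by
    rw [hH, hC.ptsOf_centralizer hy.1]; exact hq
  have hyc : y • c = c := hC.fix_of_commute hd hdc hyd.symm
  obtain ⟨b, hyb, hbc⟩ : ∃ b : Ω, y • b = b ∧ b ≠ c := by
    obtain ⟨-, p₁, p₂, hp', h1, h2⟩ := id hy
    by_cases e' : p₁ = c
    · exact ⟨p₂, h2, fun e'' => hp' (e'.trans e''.symm)⟩
    · exact ⟨p₁, h1, e'⟩
  haveI := hC.nontrivial_coreAct (hpts hyc) (hpts hyb) hbc.symm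
  have hS' := hC.coreSetting (hpts hyc) (hpts hyb) hbc.symm
  haveI : IsPretransitive ↥(hC.CoreImg H) ↥(hC.coreAct H) :=
    ⟨fun p q => hS'.exists_move hS'.covers p q⟩
  have hno := h.core_noBad (hC.coreOf_centralizer_ne_top hy) (hpts hyc) (hpts hyb) hbc.symm
  have himg : ∀ {g : G} (hg : g ∈ D) (hyg : Commute y g),
      hC.rho H ⟨g, mem_coreOf hg (hmem hyg)⟩ ∈ hC.imgD H := fun hg _ => ⟨_, hg, rfl⟩
  have h2 : ∃ x x' : ↥(hC.CoreImg H), x ≠ 1 ∧ x' ≠ 1 ∧ x ≠ x' ∧ x * x = 1 ∧ x' * x' = 1 ∧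
      x * x' = x' * x :=
    ⟨_, _, Dihedral.ne_one (hS'.orderOf_eq _ (himg hr hyr)),
      Dihedral.ne_one (hS'.orderOf_eq _ (himg hs hys)),
      fun e' => hne (congrArg Subtype.val (hC.rho_injective_of_commute (hpts hyc) (hpts hyb) hbc.symm
        (d := ⟨r, mem_coreOf hr (hmem hyr)⟩) (e := ⟨s, mem_coreOf hs (hmem hys)⟩) hr hs hrs e')),
      hS'.mul_self (himg hr hyr), hS'.mul_self (himg hs hys),
      by rw [← map_mul, ← map_mul]; exact congrArg (hC.rho H) (Subtype.ext hrs.eq)⟩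
  have hdc' : hC.rho H ⟨d, mem_coreOf hd (hmem hyd)⟩ • (⟨c, hpts hyc⟩ : ↥(hC.coreAct H)) =
      ⟨c, hpts hyc⟩ := hC.rho_fix_iff.2 hdc
  have hec' : hC.rho H ⟨e, mem_coreOf he (hmem hye)⟩ • (⟨c, hpts hyc⟩ : ↥(hC.coreAct H)) =
      ⟨c, hpts hyc⟩ := hC.rho_fix_iff.2 hec
  obtain ⟨t, Q, hS⟩ := TIEndgame.Line.exists_setup_of_noBad hno _
    (hS'.orderOf_eq _ (himg hd hyd)) hdc' (BenderSplit.orderOf_pair h2)
  obtain ⟨Z, K, A⟩ := Small.exists_data hS h2
  have h3 := (A.central _ ((A.mem_Z _).2 ⟨hdc', hS'.mul_self (himg hd hyd)⟩)).2 _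
    (A.central _ ((A.mem_Z _).2 ⟨hec', hS'.mul_self (himg he hye)⟩)).1
  rw [← map_mul, ← map_mul] at h3
  exact hC.rho_eq_iff.1 h3 p (hpts hp)

end CfsgLib.LocalEven.OnePointFront
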