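import Cfsg.Agent.Lib.LocalEven.TIEndgame.Main

/-!
# The kernel of a TI setting has odd order

By Theorem T the group induced on the points has no bad involution, so it has a rank-one set-up and
the transfer argument of `TISetting.kernel_odd` applies to the whole group.
-/

set_option autoImplicit false
set_option linter.style.haveILetI false

namespace CfsgLib.LocalEven.OnePointFront

open MulAction CfsgLib.RankOne CfsgLib.LocalEven.TIEndgame

universe u

/-- No involution of a group generated by a TI setting fixes every point. -/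
theorem eq_one_of_fix_all {G Ω : Type u} [Group G] [Finite G] [Finite Ω] [MulAction G Ω]
    {W : Ω → Subgroup G} (h : TISetting W) (hgen : Subgroup.closure (members W) = ⊤) {a b : Ω}
    (hba : b ≠ a) {p q : G} (hp : p ∈ W a) (hq : q ∈ W a) (hp1 : p ≠ 1) (hq1 : q ≠ 1) (hpq : p ≠ q)
    {z : G} (hz2 : z * z = 1) (hz : ∀ c : Ω, z • c = c) : z = 1 := by
  classical
  have hpts : ∀ c : Ω, c ∈ pts W (⊤ : Subgroup G) := fun c =>
    show W c ⊓ (⊤ : Subgroup G) ≠ ⊥ by rw [inf_top_eq]; exact h.ne_bot c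
  have ha := hpts a
  have hb := hpts b
  have four : 4 ≤ Nat.card ↥(W a ⊓ (⊤ : Subgroup G)) := by
    rw [inf_top_eq]
    have h1 : ({1, p, q, p * q} : Set G).ncard = 4 := by
      have hpq1 : p * q ≠ 1 := fun e => hpq ((mul_eq_one_iff_eq_inv.1 e).trans
        (inv_eq_of_mul_eq_one_right (h.sq a q hq)))
      rw [Set.ncard_insert_of_notMem, Set.ncard_insert_of_notMem, Set.ncard_pair] <;>
        simp [hp1.symm, hq1.symm, hpq, hpq1.symm, hp1, hq1]
    rw [← h1, show Nat.card ↥(W a) = (W a : Set G).ncard from Nat.card_coe_set_eq _]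
    refine Set.ncard_le_ncard ?_
    rintro x (rfl | rfl | rfl | rfl)
    exacts [one_mem _, hp, hq, mul_mem hp hq]
  haveI : Finite ↥(h.coreAct (⊤ : Subgroup G)) := Subtype.finite
  haveI : Nontrivial ↥(h.coreAct (⊤ : Subgroup G)) :=
    ⟨⟨⟨b, hb⟩, ⟨a, ha⟩, fun e => hba (congrArg Subtype.val e)⟩⟩
  haveI : FaithfulSMul ↥(h.CoreImg (⊤ : Subgroup G)) ↥(h.coreAct (⊤ : Subgroup G)) :=
    ⟨fun e => Subtype.ext (Equiv.ext e)⟩
  have hS' := h.coreSetting (H := (⊤ : Subgroup G)) ha hb hba.symm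
  have hno := theorem_T hS' (h.core_gen (H := (⊤ : Subgroup G)))
  haveI : IsPretransitive ↥(h.CoreImg (⊤ : Subgroup G)) ↥(h.coreAct (⊤ : Subgroup G)) :=
    ⟨fun c d => hS'.onePoint.exists_move hS'.covers c d⟩
  have h2 := h.exists_two_img (H := (⊤ : Subgroup G)) hb hba four
  have hpcore : p ∈ core W (⊤ : Subgroup G) := mem_core_of_mem (c := a) ⟨hp, trivial⟩
  set π := h.rho (⊤ : Subgroup G) ⟨p, hpcore⟩ with hπ
  have hπmem : π ∈ h.coreW (⊤ : Subgroup G) ⟨a, ha⟩ := h.mem_coreW.2 ⟨_, ⟨hp, trivial⟩, rfl⟩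
  have hπ1 : π ≠ 1 := fun e => hp1 (congrArg Subtype.val
    (h.eq_one_of_member ha hb hba.symm (c := a) (d := ⟨p, hpcore⟩) hp e))
  obtain ⟨t, Qb, hS⟩ := Line.exists_setup_of_noBad hno (⟨a, ha⟩ : ↥(h.coreAct (⊤ : Subgroup G)))
    (orderOf_eq_prime (by rw [pow_two]; exact hS'.sq _ _ hπmem) hπ1)
    (mem_stabilizer_iff.1 (hS'.fix _ hπmem)) (BenderSplit.orderOf_pair h2)
  have hfacts : ∀ Z K : Subgroup ↥(h.CoreImg (⊤ : Subgroup G)),
      Small.Data (⟨a, ha⟩ : ↥(h.coreAct (⊤ : Subgroup G))) t Qb Z K → Line.SplitFacts Qb Z :=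
    fun Z K A =>
      { sq_mem := fun _ hx => Line.sq_mem_Z A h2 hx
        comm_mem := fun _ hx _ hy => Line.comm_mem_Z A h2 hx hy
        square_log := Line.square_log A
        square_inj := fun hc _ hx _ hy e => Line.square_inj A hc hx hy e
        square_comm := fun hc _ hx hxZ _ hy h => Line.square_comm A hc hx hxZ hy h }
  refine h.kernel_odd ha hb hba four hS hfacts z ?_ hz2 (fun c _ => hz c)
  have hcore : core W (⊤ : Subgroup G) = ⊤ := by
    rw [core, Subgroup.coe_top, Set.inter_univ, hgen]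
  rw [hcore]
  trivial

end CfsgLib.LocalEven.OnePointFront
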