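import Cfsg.Agent.Lib.LocalEven.OnePointFront.Data
import Cfsg.Agent.Lib.LocalEven.OnePointFront.Basic
import Cfsg.Agent.Lib.LocalEven.OnePointFront.FullBasic
import Cfsg.Agent.Lib.LocalEven.OnePointFront.Local.Defs
import Cfsg.Agent.Lib.LocalEven.OnePointFront.KernelTI
import Cfsg.Agent.Lib.LocalEven.TIEndgame.Reductions
import Cfsg.Agent.Lib.Involution.ZStar.Main
import Cfsg.Agent.Lib.Solvable.Cores

/-!
# The kernel of a core on its points

If the members in `H` at a point commute on `ptsOf D Ω H` and two of them at one point commute, the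
elements of `coreOf D H` fixing all these points form a group of odd order: a member is isolated
above it, so by `Z*` it is central modulo its odd core, and there Theorem T applies.
-/

set_option autoImplicit false
set_option linter.style.haveILetI false

namespace CfsgLib.LocalEven.OnePointFront

open MulAction CfsgLib.LocalEven.TIEndgame CfsgLib.Involution

universe u

section

variable {G Ω : Type u} [Group G] [MulAction G Ω]

/-- The elements of the core of `H` fixing its points. -/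
def kerOf (D : Set G) (Ω : Type u) [MulAction G Ω] (H : Subgroup G) : Subgroup G :=
  coreOf D H ⊓ fixingSubgroup G (ptsOf D Ω H)

theorem mem_kerOf {D : Set G} {H : Subgroup G} {k : G} :
    k ∈ kerOf D Ω H ↔ k ∈ coreOf D H ∧ ∀ c ∈ ptsOf D Ω H, k • c = c := by
  rw [kerOf, Subgroup.mem_inf, mem_fixingSubgroup_iff]

variable {D : Set G} (h : ClosedSetting D Ω)
include h

theorem smul_mem_ptsOf {H : Subgroup G} {g : G} (hg : g ∈ H) {c : Ω} (hc : c ∈ ptsOf D Ω H) :
    g • c ∈ ptsOf D Ω H := by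
  obtain ⟨d, hd, hdH, hdc⟩ := hc
  exact ⟨g * d * g⁻¹, h.conj_mem g d hd, mul_mem (mul_mem hg hdH) (inv_mem hg),
    by rw [mul_smul, mul_smul, inv_smul_smul, hdc]⟩

theorem conj_mem_kerOf {H : Subgroup G} {g k : G} (hg : g ∈ coreOf D H) (hk : k ∈ kerOf D Ω H) :
    g * k * g⁻¹ ∈ kerOf D Ω H := by
  rw [mem_kerOf] at hk ⊢
  refine ⟨mul_mem (mul_mem hg hk.1) (inv_mem hg), fun c hc => ?_⟩
  rw [mul_smul, mul_smul, hk.2 _ (smul_mem_ptsOf h (inv_mem (coreOf_le D H hg)) hc), smul_inv_smul]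

theorem kerOf_normal (H : Subgroup G) : ((kerOf D Ω H).subgroupOf (coreOf D H)).Normal :=
  ⟨fun _ hk g => conj_mem_kerOf h g.2 hk⟩

/-- An involution in the powers of a product of two members at a point is a member. -/
theorem mem_of_pow [Finite G] {d e : G} (hd : d ∈ D) (he : e ∈ D) (i : ℕ)
    (hi2 : (d * e) ^ i * (d * e) ^ i = 1) (hi1 : (d * e) ^ i ≠ 1) : (d * e) ^ i ∈ D := by
  have hf : d * (d * e) ^ i ∈ D := by
    rw [← zpow_natCast]; exact h.reflection_mem hd he _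
  have hdd := h.mul_self hd
  have hc : Commute d (d * (d * e) ^ i) := by
    refine (Commute.refl d).mul_right ?_
    show d * (d * e) ^ i = (d * e) ^ i * d
    have h1 : (d * (d * e) ^ i) * (d * (d * e) ^ i) = 1 := h.mul_self hf
    calc d * (d * e) ^ i = (d * (d * e) ^ i)⁻¹ := (h.inv_eq hf).symm
      _ = ((d * e) ^ i)⁻¹ * d⁻¹ := mul_inv_rev _ _
      _ = (d * e) ^ i * d := by rw [inv_eq_of_mul_eq_one_right hi2, h.inv_eq hd]
  refine h.closed _ (isPGroup_closure_pair hdd (h.mul_self hf) hc) _ ?_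
    (orderOf_eq_prime (by rw [pow_two]; exact hi2) hi1)
  have hm : d * (d * (d * e) ^ i) ∈ Subgroup.closure
      (D ∩ (Subgroup.closure ({d, d * (d * e) ^ i} : Set G) : Set G)) :=
    mul_mem (Subgroup.subset_closure ⟨hd, Subgroup.subset_closure (Set.mem_insert _ _)⟩)
      (Subgroup.subset_closure ⟨hf, Subgroup.subset_closure
        (Set.mem_insert_of_mem _ (Set.mem_singleton _))⟩)
  rwa [← mul_assoc, hdd, one_mul] at hm

end

section

variable {G Ω : Type u} [Group G] [Finite G] [MulAction G Ω] {D : Set G}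

theorem not_mem_kerOf (h : ClosedSetting D Ω) {H : Subgroup G} {a b : Ω} (ha : a ∈ ptsOf D Ω H)
    (hb : b ∈ ptsOf D Ω H) (hab : a ≠ b) {d : G} (hd : d ∈ D) : d ∉ kerOf D Ω H := fun hk =>
  hab (h.fixed_unique d hd a b ((mem_kerOf.1 hk).2 a ha) ((mem_kerOf.1 hk).2 b hb))

/-- A member is central on the kernel modulo the odd core. -/
theorem comm_mem_oddCore_inf (h : ClosedSetting D Ω) {H : Subgroup G} {a b : Ω}
    (ha : a ∈ ptsOf D Ω H) (hb : b ∈ ptsOf D Ω H) (hab : a ≠ b) {d : ↥(coreOf D H)}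
    (hd : (d : G) ∈ D) {k : ↥(coreOf D H)} (hk : k ∈ (kerOf D Ω H).subgroupOf (coreOf D H)) :
    d * k * d⁻¹ * k⁻¹ ∈
      Cfsg.oddCore ↥(coreOf D H) ⊓ (kerOf D Ω H).subgroupOf (coreOf D H) := by
  classical
  haveI : Fact (Nat.Prime 2) := ⟨Nat.prime_two⟩
  set K := (kerOf D Ω H).subgroupOf (coreOf D H) with hK
  haveI hKn : K.Normal := kerOf_normal h H
  set E := K ⊔ Subgroup.zpowers d with hE
  have hdd : d * d = 1 := Subtype.ext (h.mul_self hd)
  have hdE : d ∈ E := Subgroup.mem_sup_right (Subgroup.mem_zpowers d)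
  have hkE : k ∈ E := Subgroup.mem_sup_left hk
  have helt : ∀ g ∈ E, g ∈ K ∨ g * d ∈ K := by
    intro g hg
    obtain ⟨y, hy, z, hz, rfl⟩ := Subgroup.mem_sup_of_normal_left.1 hg
    obtain ⟨i, rfl⟩ := Subgroup.mem_zpowers_iff.1 hz
    rcases Int.even_or_odd i with ⟨j, rfl⟩ | ⟨j, rfl⟩
    · left
      rwa [← two_mul, zpow_mul, zpow_two, hdd, one_zpow, mul_one]
    · right
      rwa [zpow_add, zpow_mul, zpow_two, hdd, one_zpow, one_mul, zpow_one, mul_assoc, hdd, mul_one]
  have hiso : Cfsg.IsIsolatedInvolution (⟨d, hdE⟩ : ↥E) := by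
    refine ⟨by rw [Subgroup.orderOf_mk, ← Subgroup.orderOf_coe]; exact h.orderOf_eq _ hd, fun g hg => ?_⟩
    by_contra hne
    set c : G := (((g * ⟨d, hdE⟩ * g⁻¹ : ↥E) : ↥(coreOf D H)) : G) with hc
    have hcD : c ∈ D := h.conj_mem _ _ hd
    have hne' : (d : G) ≠ c := fun e => hne (Subtype.ext (Subtype.ext e.symm))
    have hcomm : Commute (d : G) c :=
      congrArg (fun y : ↥E => ((y : ↥(coreOf D H)) : G)) hg.eq
    have hker : (d : G) * c ∈ kerOf D Ω H := by
      show d * (((g * ⟨d, hdE⟩ * g⁻¹ : ↥E) : ↥(coreOf D H))) ∈ K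
      rcases helt _ g.2 with hgK | hgK
      · show d * ((g : ↥(coreOf D H)) * d * (g : ↥(coreOf D H))⁻¹) ∈ K
        have h1 := mul_mem (hKn.conj_mem _ hgK d) (inv_mem hgK)
        rw [inv_eq_of_mul_eq_one_right hdd] at h1
        simpa [mul_assoc] using h1
      · show d * ((g : ↥(coreOf D H)) * d * (g : ↥(coreOf D H))⁻¹) ∈ K
        have hy := hgK
        have h1 := mul_mem (hKn.conj_mem _ hy d) (inv_mem hy)
        rw [inv_eq_of_mul_eq_one_right hdd] at h1
        have hdd' : ∀ y, d * (d * y) = y := fun y => by rw [← mul_assoc, hdd, one_mul]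
        simpa [mul_assoc, inv_eq_of_mul_eq_one_right hdd, hdd'] using h1
    have hmem : (d : G) * c ∈ D := by
      have h2 : ((d : G) * c) * ((d : G) * c) = 1 := by
        rw [hcomm.symm.mul_mul_mul_comm, h.mul_self hd, h.mul_self hcD, one_mul]
      have h1 : (d : G) * c ≠ 1 := fun e => hne' (by
        rw [mul_eq_one_iff_eq_inv.1 e, h.inv_eq hcD])
      simpa using mem_of_pow h hd hcD 1 (by simpa using h2) (by simpa using h1)
    exact not_mem_kerOf h ha hb hab hmem hker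
  have hX := CfsgLib.Involution.ZStar.comm_mem_oddCore hiso ⟨k, hkE⟩
  -- the odd core of `E` lies in the kernel and in the odd core of the core
  have hOK : (Cfsg.oddCore ↥E).map E.subtype ≤ K := by
    rintro _ ⟨y, hy, rfl⟩
    have hodd : Odd (orderOf y) := (Nat.coprime_two_left.1
      (CfsgLib.Solvable.Cores.coprime_card_pPrimeCore (G := ↥E) 2).symm).of_dvd_nat
      (Subgroup.orderOf_dvd_natCard _ hy)
    obtain ⟨m, hm⟩ := hodd
    have hsq : (y : ↥(coreOf D H)) * y ∈ K := by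
      rcases helt _ y.2 with hyK | hyK
      · exact mul_mem hyK hyK
      · have h1 := mul_mem hyK (hKn.conj_mem _ hyK d)
        rw [inv_eq_of_mul_eq_one_right hdd] at h1
        simpa [mul_assoc, hdd, ← mul_assoc d d] using h1
    have : (y : ↥(coreOf D H)) = ((y : ↥(coreOf D H)) * y) ^ (m + 1) := by
      rw [← pow_two, ← pow_mul, show 2 * (m + 1) = orderOf y + 1 by omega, pow_succ]
      rw [← Subgroup.orderOf_coe, pow_orderOf_eq_one, one_mul]
    show (y : ↥(coreOf D H)) ∈ K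
    rw [this]
    exact pow_mem hsq _
  have hcore : (Cfsg.oddCore ↥K).map K.subtype ≤ Cfsg.oddCore ↥(coreOf D H) := by
    refine CfsgLib.Solvable.Cores.le_pPrimeCore ?_
    rw [Subgroup.card_map_of_injective K.subtype_injective]
    exact CfsgLib.Solvable.Cores.coprime_card_pPrimeCore 2
  have hmemE := Subgroup.mem_map_of_mem E.subtype hX
  refine ⟨hcore ?_, hOK hmemE⟩
  set X := ((Cfsg.oddCore ↥E).map E.subtype).subgroupOf K with hXdef
  haveI : X.Normal := ⟨fun y hy g => by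
    obtain ⟨w, hw, hwy⟩ := hy
    exact ⟨⟨g, Subgroup.mem_sup_left g.2⟩ * w * ⟨g, Subgroup.mem_sup_left g.2⟩⁻¹,
      (inferInstance : (Cfsg.oddCore ↥E).Normal).conj_mem w hw _, by
        simp only [map_mul, map_inv, hwy, Subgroup.coe_mul, Subgroup.coe_inv, Subgroup.coe_subtype]⟩⟩
  have hXle : X ≤ Cfsg.oddCore ↥K := by
    refine CfsgLib.Solvable.Cores.le_pPrimeCore ?_
    rw [Nat.card_congr (Subgroup.subgroupOfEquivOfLe hOK).toEquiv,
      Subgroup.card_map_of_injective E.subtype_injective]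
    exact CfsgLib.Solvable.Cores.coprime_card_pPrimeCore 2
  exact ⟨⟨_, hOK hmemE⟩, hXle hmemE, rfl⟩

section Quot

variable (D) (Ω)

/-- The odd part of the kernel. -/
abbrev kerCore (H : Subgroup G) : Subgroup ↥(coreOf D H) :=
  Cfsg.oddCore ↥(coreOf D H) ⊓ (kerOf D Ω H).subgroupOf (coreOf D H)

end Quot

theorem odd_card_kerCore (D : Set G) (Ω : Type u) [MulAction G Ω] (H : Subgroup G) :
    Odd (Nat.card (kerCore Ω D H)) :=
  (Nat.coprime_two_left.1 (CfsgLib.Solvable.Cores.coprime_card_pPrimeCore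
    (G := ↥(coreOf D H)) 2).symm).of_dvd_nat (Subgroup.card_dvd_of_le inf_le_left)

/-- The kernel has odd order. -/
theorem odd_kerOf [Finite Ω] (h : ClosedSetting D Ω) {H : Subgroup G}
    (hcomm : ∀ c : Ω, ∀ d ∈ D, d ∈ H → d • c = c → ∀ e ∈ D, e ∈ H → e • c = c →
      ∀ p ∈ ptsOf D Ω H, (d * e) • p = (e * d) • p)
    {a b : Ω} (hb : b ∈ ptsOf D Ω H) (hba : b ≠ a) {r s : G} (hr : r ∈ D) (hs : s ∈ D)
    (hrH : r ∈ H) (hsH : s ∈ H) (hra : r • a = a) (hsa : s • a = a) (hrs : Commute r s)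
    (hne : r ≠ s) : Odd (Nat.card (kerOf D Ω H)) := by
  classical
  haveI : Fact (Nat.Prime 2) := ⟨Nat.prime_two⟩
  have ha : a ∈ ptsOf D Ω H := ⟨r, hr, hrH, hra⟩
  set L := coreOf D H with hL
  set K := (kerOf D Ω H).subgroupOf L with hK
  haveI hKn : K.Normal := kerOf_normal h H
  haveI hOn : (kerCore Ω D H).Normal := Subgroup.normal_inf_normal _ _
  let q : ↥L →* ↥L ⧸ kerCore Ω D H := QuotientGroup.mk' _
  have hq1 : ∀ g : ↥L, q g = 1 ↔ g ∈ kerCore Ω D H := fun g => QuotientGroup.eq_one_iff g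
  have hqK : ∀ g : ↥L, q g = 1 → ∀ c ∈ ptsOf D Ω H, (g : G) • c = c := fun g hg =>
    (mem_kerOf.1 ((hq1 g).1 hg).2).2
  -- the kernel is central in the quotient
  have hcen : ∀ k ∈ K, ∀ g : ↥L, Commute (q g) (q k) := by
    intro k hk g
    obtain ⟨g, hg⟩ := g
    induction hg using Subgroup.closure_induction with
    | mem d hd =>
      have h1 := (hq1 _).2 (comm_mem_oddCore_inf h ha hb hba.symm
        (d := (⟨d, Subgroup.subset_closure hd⟩ : ↥L)) hd.1 hk)
      rw [map_mul, map_mul, map_mul, map_inv, map_inv] at h1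
      exact mul_inv_eq_iff_eq_mul.1 (mul_inv_eq_one.1 h1)
    | one => rw [show (⟨1, _⟩ : ↥L) = 1 from rfl, map_one]; exact Commute.one_left _
    | mul x y hx hy ihx ihy =>
      rw [show (⟨x * y, _⟩ : ↥L) = ⟨x, hx⟩ * ⟨y, hy⟩ from rfl, map_mul]
      exact ihx.mul_left ihy
    | inv x hx ihx =>
      rw [show (⟨x⁻¹, _⟩ : ↥L) = ⟨x, hx⟩⁻¹ from rfl, map_inv]
      exact ihx.inv_left
  -- the members at a point form a group in the quotient
  let good : Ω → ↥L → Prop := fun c g => (g : G) = 1 ∨ ((g : G) ∈ D ∧ (g : G) • c = c)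
  have hgood_sq : ∀ c g, good c g → g * g = 1 := by
    rintro c g (hg | hg)
    · rw [show g = 1 from Subtype.ext hg, one_mul]
    · exact Subtype.ext (h.mul_self hg.1)
  have hgmul : ∀ c, c ∈ ptsOf D Ω H → ∀ g g', good c g → good c g' →
      ∃ w, good c w ∧ q w = q g * q g' := by
    intro c hc g g' hg hg'
    rcases hg with hg | ⟨hgD, hgc⟩
    · exact ⟨g', hg', by rw [show g = 1 from Subtype.ext hg, map_one, one_mul]⟩
    rcases hg' with hg' | ⟨hg'D, hg'c⟩
    · exact ⟨g, Or.inr ⟨hgD, hgc⟩, by rw [show g' = 1 from Subtype.ext hg', map_one, mul_one]⟩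
    set y := g * g' with hy
    have hgH : (g : G) ∈ H := coreOf_le D H g.2
    have hg'H : (g' : G) ∈ H := coreOf_le D H g'.2
    have hy2K : y ^ 2 ∈ K := by
      show ((y ^ 2 : ↥L) : G) ∈ kerOf D Ω H
      refine mem_kerOf.2 ⟨(y ^ 2).2, fun p hp => ?_⟩
      show ((g : G) * g') ^ 2 • p = p
      rw [pow_two, mul_smul]
      conv_lhs => rw [hcomm c _ hgD hgH hgc _ hg'D hg'H hg'c _
        (smul_mem_ptsOf h (mul_mem hgH hg'H) hp)]
      rw [← mul_smul, show (g' : G) * g * ((g : G) * g') = 1 by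
        rw [mul_assoc, ← mul_assoc (g : G) g g', h.mul_self hgD, one_mul, h.mul_self hg'D], one_smul]
    obtain ⟨j, m, hm, hn⟩ := Nat.exists_eq_two_pow_mul_odd (orderOf_pos y).ne'
    -- four does not divide the order
    have hj : y ^ (2 * m) = 1 := by
      rcases j with _ | _ | j
      · rw [← orderOf_dvd_iff_pow_eq_one, hn]; exact ⟨2, by ring⟩
      · rw [← orderOf_dvd_iff_pow_eq_one, hn]; exact ⟨1, by ring⟩
      · exfalso
        set i := 2 ^ (j + 1) * m with hi
        have hii : i + i = orderOf y := by rw [hn, hi]; ring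
        have hi0 : 0 < i := by
          have := hm.pos; positivity
        have h1 : y ^ i ≠ 1 := pow_ne_one_of_lt_orderOf hi0.ne' (by omega)
        have h2 : y ^ i * y ^ i = 1 := by rw [← pow_add, hii, pow_orderOf_eq_one]
        have hmemD : ((y ^ i : ↥L) : G) ∈ D := by
          show ((g : G) * g') ^ i ∈ D
          exact mem_of_pow h hgD hg'D i (congrArg Subtype.val h2) (fun e => h1 (Subtype.ext e))
        have hmemK : y ^ i ∈ K := by
          rw [hi, show 2 ^ (j + 1) * m = 2 * (2 ^ j * m) by ring, pow_mul]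
          exact pow_mem hy2K _
        exact not_mem_kerOf h ha hb hba.symm hmemD hmemK
    -- modulo the core the product is an involution
    set u := q (y ^ 2) with hu
    have hucen : ∀ z : ↥L, Commute (q z) u := hcen _ hy2K
    have hu1 : u = 1 := by
      have hinv : q g * u * q g = u⁻¹ := by
        rw [hu, ← map_mul, ← map_mul, ← map_inv]
        refine congrArg q ?_
        have hgg := hgood_sq c g (Or.inr ⟨hgD, hgc⟩)
        have hgg' := hgood_sq c g' (Or.inr ⟨hg'D, hg'c⟩)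
        rw [hy, pow_two, mul_inv_rev, mul_inv_rev, inv_eq_of_mul_eq_one_right hgg,
          inv_eq_of_mul_eq_one_right hgg']
        calc g * (g * g' * (g * g')) * g = g * g * (g' * g * g' * g) := by group
          _ = g' * g * (g' * g) := by rw [hgg, one_mul, mul_assoc (g' * g) g' g]
      have h2 : u ^ 2 = 1 := by
        rw [(hucen g).eq, mul_assoc, ← map_mul, hgood_sq c g (Or.inr ⟨hgD, hgc⟩), map_one, mul_one]
          at hinv
        rw [pow_two]
        nth_rewrite 2 [hinv]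
        exact mul_inv_cancel u
      have hm1 : u ^ m = 1 := by rw [hu, ← map_pow, ← pow_mul, hj, map_one]
      obtain ⟨l, hl⟩ := hm
      rwa [hl, pow_succ, pow_mul, h2, one_pow, one_mul] at hm1
    have hqy : q (y ^ m) = q y := by
      obtain ⟨l, hl⟩ := hm
      rw [hl, pow_succ, pow_mul, map_mul, map_pow, ← hu, hu1, one_pow, one_mul]
    by_cases hym : y ^ m = 1
    · exact ⟨1, Or.inl rfl, by rw [map_one, ← map_mul, ← hy, ← hqy, hym, map_one]⟩
    refine ⟨y ^ m, Or.inr ⟨?_, ?_⟩, by rw [hqy, hy, map_mul]⟩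
    · show ((g : G) * g') ^ m ∈ D
      refine mem_of_pow h hgD hg'D m ?_ (fun e => hym (Subtype.ext e))
      rw [← pow_add, ← two_mul]
      exact congrArg Subtype.val hj
    · show ((g : G) * g') ^ m • c = c
      exact mem_stabilizer_iff.1 (pow_mem (mul_mem (mem_stabilizer_iff.2 hgc)
        (mem_stabilizer_iff.2 hg'c)) m)
  let W : {c // c ∈ ptsOf D Ω H} → Subgroup (↥L ⧸ kerCore Ω D H) := fun c =>
    { carrier := {x | ∃ g, good c g ∧ q g = x}
      one_mem' := ⟨1, Or.inl rfl, map_one q⟩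
      mul_mem' := by
        rintro _ _ ⟨g, hg, rfl⟩ ⟨g', hg', rfl⟩
        exact hgmul c c.2 g g' hg hg'
      inv_mem' := by
        rintro _ ⟨g, hg, rfl⟩
        exact ⟨g, hg, by rw [← map_inv, inv_eq_of_mul_eq_one_right (hgood_sq c g hg)]⟩ }
  -- the action of the quotient on the points
  letI actL : MulAction ↥L {c // c ∈ ptsOf D Ω H} :=
    { smul := fun g c => ⟨(g : G) • (c : Ω), smul_mem_ptsOf h (coreOf_le D H g.2) c.2⟩
      one_smul := fun c => Subtype.ext (one_smul G (c : Ω))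
      mul_smul := fun g g' c => Subtype.ext (mul_smul (g : G) g' (c : Ω)) }
  let φ : ↥L ⧸ kerCore Ω D H →* Equiv.Perm {c // c ∈ ptsOf D Ω H} :=
    QuotientGroup.lift _ (MulAction.toPermHom ↥L _) fun g hg =>
      Equiv.ext fun c => Subtype.ext ((mem_kerOf.1 hg.2).2 c c.2)
  letI : MulAction (↥L ⧸ kerCore Ω D H) {c // c ∈ ptsOf D Ω H} := MulAction.compHom _ φ
  have hsmul : ∀ (g : ↥L) (c : {c // c ∈ ptsOf D Ω H}), ((q g • c : _) : Ω) = (g : G) • (c : Ω) :=
    fun _ _ => rfl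
  have hmemne : ∀ g : ↥L, (g : G) ∈ D → q g ≠ 1 := fun g hg e =>
    not_mem_kerOf h ha hb hba.symm hg ((hq1 g).1 e).2
  have hT : TISetting W := by
    refine ⟨?_, ?_, ?_, ?_, ?_⟩
    · rintro c _ ⟨g, hg, rfl⟩
      rw [← map_mul, hgood_sq c g hg, map_one]
    · rintro c _ ⟨g, hg, rfl⟩
      refine mem_stabilizer_iff.2 (Subtype.ext ((hsmul g c).trans ?_))
      rcases hg with hg | hg
      · rw [hg, one_smul]
      · exact hg.2
    · rintro c _ ⟨g, hg, rfl⟩ h1 p hp
      rcases hg with hg | hg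
      · exact absurd (by rw [show g = 1 from Subtype.ext hg, map_one]) h1
      · exact Subtype.ext (h.fixed_unique _ hg.1 _ _ ((hsmul g p).symm.trans (congrArg Subtype.val hp)) hg.2)
    · intro x c y ⟨g, hg, hgy⟩
      obtain ⟨x, rfl⟩ := QuotientGroup.mk'_surjective (kerCore Ω D H) x
      refine ⟨x * g * x⁻¹, ?_, by rw [map_mul, map_mul, map_inv, hgy]⟩
      rcases hg with hg | hg
      · left; rw [show g = 1 from Subtype.ext hg, mul_one, mul_inv_cancel]; rfl
      · right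
        refine ⟨h.conj_mem _ _ hg.1, ?_⟩
        show ((x : G) * g * (x : G)⁻¹) • ((x : G) • (c : Ω)) = (x : G) • (c : Ω)
        rw [mul_smul, mul_smul, inv_smul_smul, hg.2]
    · intro c hbot
      obtain ⟨d, hd, hdH, hdc⟩ := c.2
      have h1 : q ⟨d, mem_coreOf hd hdH⟩ ∈ W c := ⟨_, Or.inr ⟨hd, hdc⟩, rfl⟩
      rw [hbot, Subgroup.mem_bot] at h1
      exact hmemne _ hd h1
  have hgen : Subgroup.closure (members W) = ⊤ := by
    refine eq_top_iff.2 fun x hx' => ?_
    clear hx'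
    obtain ⟨⟨x, hx⟩, rfl⟩ := QuotientGroup.mk'_surjective (kerCore Ω D H) x
    induction hx using Subgroup.closure_induction with
    | mem d hd =>
      obtain ⟨c, hdc⟩ := h.exists_fixed d hd.1
      exact Subgroup.subset_closure
        ⟨hmemne _ hd.1, ⟨c, ⟨d, hd.1, hd.2, hdc⟩⟩, _, Or.inr ⟨hd.1, hdc⟩, rfl⟩
    | one => rw [show (⟨1, _⟩ : ↥L) = 1 from rfl, map_one]; exact one_mem _
    | mul x y hx hy ihx ihy =>
      rw [show (⟨x * y, _⟩ : ↥L) = ⟨x, hx⟩ * ⟨y, hy⟩ from rfl, map_mul]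
      exact mul_mem ihx ihy
    | inv x hx ihx =>
      rw [show (⟨x⁻¹, _⟩ : ↥L) = ⟨x, hx⟩⁻¹ from rfl, map_inv]
      exact inv_mem ihx
  set r' : ↥L := ⟨r, mem_coreOf hr hrH⟩
  set s' : ↥L := ⟨s, mem_coreOf hs hsH⟩
  have hqrs : q r' ≠ q s' := fun e => by
    have h1 : r * s ≠ 1 := fun e1 => hne (by rw [mul_eq_one_iff_eq_inv.1 e1, h.inv_eq hs])
    have h2 : (r * s) * (r * s) = 1 := by
      rw [hrs.symm.mul_mul_mul_comm, h.mul_self hr, h.mul_self hs, one_mul]
    refine hmemne (r' * s') (by simpa using mem_of_pow h hr hs 1 (by simpa using h2) (by simpa using h1)) ?_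
    rw [map_mul, e, ← map_mul, hgood_sq a s' (Or.inr ⟨hs, hsa⟩), map_one]
  rw [← Nat.not_even_iff_odd, even_iff_two_dvd]
  intro h2
  obtain ⟨⟨k, hk⟩, hko⟩ := exists_prime_orderOf_dvd_card' 2 h2
  rw [Subgroup.orderOf_mk] at hko
  set k' : ↥L := ⟨k, (mem_kerOf.1 hk).1⟩
  have hk'2 : k' * k' = 1 := Subtype.ext (Dihedral.mul_self hko)
  have hz := eq_one_of_fix_all hT hgen (a := ⟨a, ha⟩) (b := ⟨b, hb⟩)
    (fun e => hba (congrArg Subtype.val e)) (p := q r') (q := q s')
    ⟨r', Or.inr ⟨hr, hra⟩, rfl⟩ ⟨s', Or.inr ⟨hs, hsa⟩, rfl⟩ (hmemne _ hr) (hmemne _ hs) hqrs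
    (z := q k') (by rw [← map_mul, hk'2, map_one])
    (fun c => Subtype.ext ((hsmul k' c).trans ((mem_kerOf.1 hk).2 c c.2)))
  have hodd : Odd (orderOf k') :=
    (odd_card_kerCore D Ω H).of_dvd_nat (Subgroup.orderOf_dvd_natCard _ ((hq1 k').1 hz))
  rw [← Subgroup.orderOf_coe, show (k' : G) = k from rfl, hko] at hodd
  exact absurd hodd (by decide)

/-- A member at `a` in `H` agrees modulo the kernel with one in a group of members which is maximal
among 2-subgroups at `a`. -/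
theorem exists_mem_mul (h : ClosedSetting D Ω) {H : Subgroup G}
    (hcomm : ∀ c : Ω, ∀ d ∈ D, d ∈ H → d • c = c → ∀ e ∈ D, e ∈ H → e • c = c →
      ∀ p ∈ ptsOf D Ω H, (d * e) • p = (e * d) • p)
    {a : Ω} {R : Subgroup G} (hR2 : IsPGroup 2 R)
    (hRH : R ≤ H) (hR : ∀ r ∈ R, r = 1 ∨ (r ∈ D ∧ r • a = a))
    (hmax : ∀ S : Subgroup G, IsPGroup 2 S → S ≤ stabilizer G a → R ≤ S → ∀ d ∈ D, d ∈ S → d ∈ R)
    {f : G} (hf : f ∈ D) (hfH : f ∈ H) (hfa : f • a = a) :
    ∃ k ∈ kerOf D Ω H, ∃ r ∈ R, f = k * r := by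
  classical
  haveI : Fact (Nat.Prime 2) := ⟨Nat.prime_two⟩
  set L := coreOf D H
  set K := (kerOf D Ω H).subgroupOf L with hK
  haveI hKn : K.Normal := kerOf_normal h H
  let π : ↥L →* ↥L ⧸ K := QuotientGroup.mk' K
  set Z : Subgroup ↥L := Subgroup.closure {g | (g : G) ∈ D ∧ (g : G) • a = a}
  set U := K ⊔ Z with hU
  have hK1 : ∀ g : ↥L, π g = 1 ↔ g ∈ K := fun g => QuotientGroup.eq_one_iff g
  have hgens : ∀ g g' : ↥L, (g : G) ∈ D → (g : G) • a = a → (g' : G) ∈ D → (g' : G) • a = a →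
      Commute (π g) (π g') := by
    intro g g' hg hga hg' hg'a
    show π g * π g' = π g' * π g
    rw [← map_mul, ← map_mul]
    refine (QuotientGroup.eq).2 ?_
    show ((g : G) * g')⁻¹ * ((g' : G) * g) ∈ kerOf D Ω H
    refine mem_kerOf.2 ⟨((g * g')⁻¹ * (g' * g)).2, fun p hp => ?_⟩
    rw [mul_smul, inv_smul_eq_iff]
    exact (hcomm a _ hg (coreOf_le D H g.2) hga _ hg' (coreOf_le D H g'.2) hg'a p hp).symm
  have hZ : ∀ g ∈ Z, π g * π g = 1 ∧ (g : G) • a = a ∧
      ∀ g' : ↥L, (g' : G) ∈ D → (g' : G) • a = a → Commute (π g) (π g') := by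
    intro g hg
    induction hg using Subgroup.closure_induction with
    | mem y hy =>
      exact ⟨by rw [← map_mul, show y * y = 1 from Subtype.ext (h.mul_self hy.1), map_one], hy.2,
        fun g' h1 h2 => hgens y g' hy.1 hy.2 h1 h2⟩
    | one => exact ⟨by rw [map_one, one_mul], one_smul _ _, fun g' _ _ => by rw [map_one]; exact Commute.one_left _⟩
    | mul y z hy hz ihy ihz =>
      refine ⟨?_, by rw [Subgroup.coe_mul, mul_smul, ihz.2.1, ihy.2.1],
        fun g' h1 h2 => by rw [map_mul]; exact (ihy.2.2 g' h1 h2).mul_left (ihz.2.2 g' h1 h2)⟩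
      have hyz : Commute (π y) (π z) := by
        clear ihz
        induction hz using Subgroup.closure_induction with
        | mem w hw => exact ihy.2.2 w hw.1 hw.2
        | one => rw [map_one]; exact Commute.one_right _
        | mul w w' _ _ iw iw' => rw [map_mul]; exact iw.mul_right iw'
        | inv w _ iw => rw [map_inv]; exact iw.inv_right
      rw [map_mul, hyz.symm.mul_mul_mul_comm, ihy.1, ihz.1, one_mul]
    | inv y _ ihy =>
      exact ⟨by rw [map_inv, ← mul_inv_rev, ihy.1, inv_one],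
        by rw [Subgroup.coe_inv, inv_smul_eq_iff, ihy.2.1],
        fun g' h1 h2 => by rw [map_inv]; exact (ihy.2.2 g' h1 h2).inv_left⟩
  have hKa : ∀ g ∈ K, (g : G) • a = a := fun g hg =>
    (mem_kerOf.1 hg).2 a ⟨f, hf, hfH, hfa⟩
  have hUelt : ∀ g ∈ U, π g * π g = 1 ∧ (g : G) • a = a := by
    intro g hg
    obtain ⟨y, hy, z, hz, rfl⟩ := Subgroup.mem_sup_of_normal_left.1 hg
    rw [map_mul, (hK1 y).2 hy, one_mul, Subgroup.coe_mul, mul_smul, (hZ z hz).2.1, hKa y hy]
    exact ⟨(hZ z hz).1, rfl⟩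
  have hRU : ∀ r ∈ R, ∀ hrL : r ∈ L, (⟨r, hrL⟩ : ↥L) ∈ U := fun r hr hrL => by
    rcases hR r hr with rfl | hr'
    · exact one_mem _
    · exact Subgroup.mem_sup_right (Subgroup.subset_closure hr')
  have hRL : R ≤ L := fun r hr => by
    rcases hR r hr with rfl | hr'
    · exact one_mem _
    · exact mem_coreOf hr'.1 (hRH hr)
  set R' : Subgroup ↥U := (R.subgroupOf L).subgroupOf U
  have hR'2 : IsPGroup 2 R' := by
    have h1 : IsPGroup 2 (R.subgroupOf L) := hR2.of_equiv (Subgroup.subgroupOfEquivOfLe hRL).symm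
    exact h1.comap_of_injective _ U.subtype_injective
  obtain ⟨S, hS⟩ := hR'2.exists_le_sylow
  set SG : Subgroup G := ((S : Subgroup ↥U).map U.subtype).map L.subtype
  have hSa : SG ≤ stabilizer G a := by
    rintro _ ⟨_, ⟨u, -, rfl⟩, rfl⟩
    exact mem_stabilizer_iff.2 (hUelt _ u.2).2
  have hRS : R ≤ SG := fun r hr =>
    ⟨⟨r, hRL hr⟩, ⟨⟨⟨r, hRL hr⟩, hRU r hr (hRL hr)⟩, hS hr, rfl⟩, rfl⟩
  have hSG2 : IsPGroup 2 SG := (S.isPGroup'.map _).map _
  -- conjugate `f` into the Sylow subgroup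
  set f' : ↥L := ⟨f, mem_coreOf hf hfH⟩
  have hf'U : f' ∈ U := Subgroup.mem_sup_right (Subgroup.subset_closure ⟨hf, hfa⟩)
  set f'' : ↥U := ⟨f', hf'U⟩
  have hf2 : IsPGroup 2 (Subgroup.zpowers f'') := CfsgLib.Involution.Basic.isPGroup_zpowers_of_two
    (by rw [Subgroup.orderOf_mk, Subgroup.orderOf_mk]; exact h.orderOf_eq f hf)
  obtain ⟨S', hS'⟩ := hf2.exists_le_sylow
  obtain ⟨w, hw⟩ := exists_smul_eq ↥U S' S
  have hconj : w * f'' * w⁻¹ ∈ (S : Subgroup ↥U) := by
    have h1 : f'' ∈ (S' : Subgroup ↥U) := hS' (Subgroup.mem_zpowers _)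
    rw [← hw]
    exact Subgroup.smul_mem_pointwise_smul _ _ _ h1
  set r : G := ((w : ↥L) : G) * f * ((w : ↥L) : G)⁻¹ with hr
  have hrSG : r ∈ SG := ⟨_, ⟨_, hconj, rfl⟩, rfl⟩
  have hrR : r ∈ R := hmax SG hSG2 hSa hRS r (h.conj_mem _ _ hf) hrSG
  refine ⟨f * r⁻¹, ?_, r, hrR, by group⟩
  have h2 : π (w : ↥L) * π f' * (π (w : ↥L))⁻¹ = π f' := by
    obtain ⟨y, hy, z, hz, e⟩ := Subgroup.mem_sup_of_normal_left.1 w.2
    rw [← e, map_mul, (hK1 y).2 hy, one_mul, ((hZ z hz).2.2 f' hf hfa).eq, mul_inv_cancel_right]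
  have h3 : π (f' * ((w : ↥L) * f' * (w : ↥L)⁻¹)⁻¹) = 1 := by
    rw [map_mul, map_inv, map_mul, map_mul, map_inv, h2, mul_inv_cancel]
  exact (hK1 _).1 h3

end

section Line

variable {G Ω : Type u} [Group G] [Finite G] [MulAction G Ω] {D : Set G}

theorem ptsOf_centralizer (h : ClosedSetting D Ω) {x : G} (hx : orderOf x = 2) :
    ptsOf D Ω (Subgroup.centralizer {x}) = fixedBy Ω x := by
  ext c
  constructor
  · rintro ⟨d, hd, hdx, hdc⟩
    exact h.fix_of_commute hd hdc (Subgroup.mem_centralizer_singleton_iff.1 hdx)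
  · intro hc
    obtain ⟨d, hd, hdx⟩ := OnePoint.exists_dat_commute (D := D) h.covers hx hc
    exact ⟨d, hd.1, Subgroup.mem_centralizer_singleton_iff.2 hdx.eq.symm, hd.2⟩

theorem kerOf_centralizer (h : ClosedSetting D Ω) {x : G} (hx : orderOf x = 2) :
    kerOf D Ω (Subgroup.centralizer {x}) = lineKer D Ω x := by
  rw [kerOf, lineKer, ptsOf_centralizer h hx]

variable [Finite Ω] {a : Ω} {x : G} {R P : Subgroup G}

/-- The kernel on the line of a full bad involution has odd order. -/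
theorem FullData.odd_lineKer (F : FullData D a x R P) (h : ClosedSetting D Ω)
    (hcomm : ∀ c : Ω, ∀ d ∈ D, Commute x d → d • c = c → ∀ e ∈ D, Commute x e → e • c = c →
      ∀ p : Ω, x • p = p → (d * e) • p = (e * d) • p) :
    Odd (Nat.card (lineKer D Ω x)) := by
  classical
  obtain ⟨hx2, p₁, p₂, hp, h1, h2⟩ := F.bad
  have hpts := ptsOf_centralizer h hx2
  obtain ⟨b, hb, hba⟩ : ∃ b : Ω, b ∈ fixedBy Ω x ∧ b ≠ a := by
    by_cases e : p₁ = a
    · exact ⟨p₂, h2, fun e' => hp (e.trans e'.symm)⟩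
    · exact ⟨p₁, h1, e⟩
  obtain ⟨⟨r, hr⟩, ⟨s, hs⟩, hr1, hs1, hrs⟩ :
      ∃ r s : ↥R, r ≠ 1 ∧ s ≠ 1 ∧ r ≠ s := by
    have h4 := F.four
    haveI := Fintype.ofFinite ↥R
    rw [Nat.card_eq_fintype_card] at h4
    obtain ⟨r, s, t, hrs, hrt, hst⟩ := Fintype.two_lt_card_iff.1 (show 2 < Fintype.card ↥R by omega)
    by_cases e : r = 1
    · exact ⟨s, t, fun e' => hrs (e.trans e'.symm), fun e' => hrt (e.trans e'.symm), hst⟩
    by_cases e2 : s = 1
    · exact ⟨r, t, e, fun e' => hst (e2.trans e'.symm), hrt⟩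
    · exact ⟨r, s, e, e2, hrs⟩
  obtain ⟨hrD, hrP⟩ := ((F.mem_iff r).1 hr).resolve_left fun e => hr1 (Subtype.ext e)
  obtain ⟨hsD, hsP⟩ := ((F.mem_iff s).1 hs).resolve_left fun e => hs1 (Subtype.ext e)
  have hrsc : Commute r s := by
    show r * s = s * r
    calc r * s = (r * s)⁻¹ := (inv_eq_of_mul_eq_one_right (F.sq _ (mul_mem hr hs))).symm
      _ = s * r := by rw [mul_inv_rev, h.inv_eq hrD, h.inv_eq hsD]
  rw [← kerOf_centralizer h hx2]
  refine odd_kerOf h (fun c d hd hdx hdc e he hex hec p hp' => hcomm c d hd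
      (Subgroup.mem_centralizer_singleton_iff.1 hdx).symm hdc e he
      (Subgroup.mem_centralizer_singleton_iff.1 hex).symm hec p (hpts ▸ hp' : p ∈ fixedBy Ω x))
    (a := a) (b := b) (hpts ▸ hb) hba hrD hsD
    (Subgroup.mem_centralizer_singleton_iff.2 (F.comm r hr).eq.symm)
    (Subgroup.mem_centralizer_singleton_iff.2 (F.comm s hs).eq.symm)
    (mem_stabilizer_iff.1 (F.top.2.1 hrP)) (mem_stabilizer_iff.1 (F.top.2.1 hsP)) hrsc
    (fun e => hrs (Subtype.ext e))

/-- The members commuting with `x` at `a` lie in the kernel times `R`. -/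
theorem FullData.exists_lineKer_mul (F : FullData D a x R P) (h : ClosedSetting D Ω)
    (hcomm : ∀ c : Ω, ∀ d ∈ D, Commute x d → d • c = c → ∀ e ∈ D, Commute x e → e • c = c →
      ∀ p : Ω, x • p = p → (d * e) • p = (e * d) • p)
    {f : G} (hf : f ∈ D) (hfx : Commute x f) (hfa : f • a = a) :
    ∃ k ∈ lineKer D Ω x, ∃ r ∈ R, f = k * r := by
  obtain ⟨hx2, -⟩ := F.bad
  rw [← kerOf_centralizer h hx2]
  refine exists_mem_mul h (fun c d hd hdx hdc e he hex hec p hp => hcomm c d hd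
      (Subgroup.mem_centralizer_singleton_iff.1 hdx).symm hdc e he
      (Subgroup.mem_centralizer_singleton_iff.1 hex).symm hec p
      (ptsOf_centralizer h hx2 ▸ hp : p ∈ fixedBy Ω x))
    (fun r => ⟨1, Subtype.ext (by rw [pow_one, pow_two]; exact F.sq _ r.2)⟩)
    (fun r hr => Subgroup.mem_centralizer_singleton_iff.2 (F.comm r hr).eq.symm)
    (fun r hr => ((F.mem_iff r).1 hr).imp id fun h' => ⟨h'.1, mem_stabilizer_iff.1 (F.top.2.1 h'.2)⟩)
    F.maximal hf
    (Subgroup.mem_centralizer_singleton_iff.2 hfx.eq.symm) hfa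

omit [Finite Ω] in
/-- The full data move along `R`. -/
theorem FullData.mul_right (F : FullData D a x R P) {r : G} (hr : r ∈ R) :
    FullData D a (x * r) R P where
  bad := F.bad_mul r hr
  fix := by rw [mul_smul, mem_stabilizer_iff.1 (F.top.2.1 (F.le hr)), F.fix]
  top := F.top
  mem := mul_mem F.mem (F.le hr)
  le := F.le
  mem_iff := F.mem_iff
  sq := F.sq
  comm r' hr' := by
    refine (F.comm r' hr').mul_left ?_
    show r * r' = r' * r
    have hinv : ∀ y ∈ R, y⁻¹ = y := fun y hy => inv_eq_of_mul_eq_one_right (F.sq y hy)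
    calc r * r' = (r * r')⁻¹ := (hinv _ (mul_mem hr hr')).symm
      _ = r' * r := by rw [mul_inv_rev, hinv r hr, hinv r' hr']
  four := F.four
  bad_mul r' hr' := by rw [mul_assoc]; exact F.bad_mul _ (mul_mem hr hr')
  maximal := F.maximal

omit [Finite Ω] in
/-- Two distinct members commute with the full bad involution and with each other. -/
theorem FullData.exists_pair (F : FullData D a x R P) :
    ∃ r ∈ D, ∃ s ∈ D, Commute x r ∧ Commute x s ∧ Commute r s ∧ r ≠ s := by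
  classical
  obtain ⟨⟨r, hr⟩, ⟨s, hs⟩, hr1, hs1, hrs⟩ :
      ∃ r s : ↥R, r ≠ 1 ∧ s ≠ 1 ∧ r ≠ s := by
    have h4 := F.four
    haveI := Fintype.ofFinite ↥R
    rw [Nat.card_eq_fintype_card] at h4
    obtain ⟨r, s, t, hrs, hrt, hst⟩ := Fintype.two_lt_card_iff.1 (show 2 < Fintype.card ↥R by omega)
    by_cases e : r = 1
    · exact ⟨s, t, fun e' => hrs (e.trans e'.symm), fun e' => hrt (e.trans e'.symm), hst⟩
    by_cases e2 : s = 1
    · exact ⟨r, t, e, fun e' => hst (e2.trans e'.symm), hrt⟩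
    · exact ⟨r, s, e, e2, hrs⟩
  refine ⟨r, (((F.mem_iff r).1 hr).resolve_left fun e => hr1 (Subtype.ext e)).1, s,
    (((F.mem_iff s).1 hs).resolve_left fun e => hs1 (Subtype.ext e)).1, F.comm r hr, F.comm s hs, ?_,
    fun e => hrs (Subtype.ext e)⟩
  show r * s = s * r
  calc r * s = (r * s)⁻¹ := (inv_eq_of_mul_eq_one_right (F.sq _ (mul_mem hr hs))).symm
    _ = s * r := by rw [mul_inv_rev, inv_eq_of_mul_eq_one_right (F.sq r hr),
      inv_eq_of_mul_eq_one_right (F.sq s hs)]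

/-- What local control takes from the lines. -/
theorem FullData.lineFacts (F : FullData D a x R P) (h : ClosedSetting D Ω)
    (hcomm : ∀ y : G, IsBad Ω y →
      (∃ r ∈ D, ∃ s ∈ D, Commute y r ∧ Commute y s ∧ Commute r s ∧ r ≠ s) →
      ∀ c : Ω, ∀ d ∈ D, Commute y d → d • c = c → ∀ e ∈ D, Commute y e →
        e • c = c → ∀ p : Ω, y • p = p → (d * e) • p = (e * d) • p) :
    LineFacts D a x R where
  odd r hr := (F.mul_right hr).odd_lineKer h
    (hcomm _ (F.bad_mul r hr) (F.mul_right hr).exists_pair)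
  mem r hr d hd hdx := by
    obtain ⟨k, hk, r', hr', e⟩ := (F.mul_right hr).exists_lineKer_mul h
      (hcomm _ (F.bad_mul r hr) (F.mul_right hr).exists_pair) hd.1 hdx hd.2
    exact ⟨k⁻¹, inv_mem hk, by rw [e, inv_mul_cancel_left]; exact hr'⟩

end Line

end CfsgLib.LocalEven.OnePointFront
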