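import Cfsg.Agent.Lib.LocalEven.OnePointFront.CoreGood
import Cfsg.Agent.Lib.LocalEven.OnePointFront.FullBasic
import Cfsg.Agent.Lib.LocalEven.OnePointFront.Basic
import Cfsg.Agent.Lib.LocalEven.OnePointFront.CoreGood
import Cfsg.Agent.Lib.LocalEven.TIEndgame.Line.Induced
import Cfsg.Agent.Lib.RankOne.Small.Closure

/-!
# Members of a 2-group centralised by a bad involution commute

The line of the bad involution has, by induction, no bad involution, so a rank-one set-up, in which
the involutions of a point stabiliser commute; a 2-group generated by members acts faithfully on it.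
-/

set_option autoImplicit false
set_option linter.style.haveILetI false

namespace CfsgLib.LocalEven.OnePointFront

open MulAction CfsgLib.LocalEven.TIEndgame CfsgLib.Involution

universe u

namespace FrontMin

variable {G Ω : Type u} [Group G] [Finite G] [Finite Ω] [MulAction G Ω] [FaithfulSMul G Ω]
  {D : Set G} (h : FrontMin G Ω D)
include h

theorem pairComm : PairComm D Ω := by
  intro x a P hx hxa hP hPa d hd hdP e he heP hxd hxe
  set hh : ClosedSetting D Ω := h.toClosedSetting with hhdef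
  obtain ⟨b, hxb, hba⟩ : ∃ b : Ω, x • b = b ∧ b ≠ a := by
    obtain ⟨-, p, q, hpq, hp, hq⟩ := id hx
    by_cases hpa : p = a
    · exact ⟨q, hq, fun e' => hpq (hpa.trans e'.symm)⟩
    · exact ⟨p, hp, hpa⟩
  set H : Subgroup G := Subgroup.centralizer {x} with hH
  have hmemH : ∀ {g : G}, Commute x g → g ∈ H := fun hg =>
    Subgroup.mem_centralizer_singleton_iff.2 hg.symm.eq
  -- a member in the centre
  obtain ⟨z, hz, hzP, hzc⟩ := exists_central_member h.orderOf_eq h.conj_mem h.closed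
    (hP.to_le (inf_le_left : P ⊓ H ≤ P)) hd (Subgroup.mem_inf.2 ⟨hdP, hmemH hxd⟩)
  by_cases hzd : z = d
  · subst hzd
    exact (hzc e (Subgroup.mem_inf.2 ⟨heP, hmemH hxe⟩)).symm
  have hzd' : Commute d z := hzc d (Subgroup.mem_inf.2 ⟨hdP, hmemH hxd⟩)
  obtain ⟨hzP', hzH⟩ := Subgroup.mem_inf.1 hzP
  -- the line
  have hpts : ∀ {c : Ω}, x • c = c → c ∈ ptsOf D Ω H := fun hc => by
    rw [hH, hh.ptsOf_centralizer hx.1]; exact hc
  have ha : a ∈ ptsOf D Ω H := hpts hxa
  have hb : b ∈ ptsOf D Ω H := hpts hxb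
  haveI hnt : Nontrivial ↥(hh.coreAct H) := hh.nontrivial_coreAct ha hb hba.symm
  have hcs : ClosedSetting (hh.imgD H) ↥(hh.coreAct H) := hh.coreSetting ha hb hba.symm
  have hlt : Nat.card ↥(hh.CoreImg H) < Nat.card G :=
    lt_of_le_of_lt (Nat.card_le_card_of_surjective _ (hh.rho_surjective H))
      (lt_of_le_of_ne (Subgroup.card_le_card_group _) fun e' =>
        hh.coreOf_centralizer_ne_top hx (Subgroup.eq_top_of_card_eq _ e'))
  have hno : NoBad ↥(hh.CoreImg H) ↥(hh.coreAct H) :=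
    h.below _ _ (hh.imgD H) hlt hcs (hh.hasGood_core h.good ha hb hba.symm) (hh.core_gen H)
  haveI : IsPretransitive ↥(hh.CoreImg H) ↥(hh.coreAct H) :=
    ⟨fun p q => hcs.toOnePoint.exists_move hcs.covers p q⟩
  let d' : ↥(coreOf D H) := ⟨d, mem_coreOf hd (hmemH hxd)⟩
  let e' : ↥(coreOf D H) := ⟨e, mem_coreOf he (hmemH hxe)⟩
  let z' : ↥(coreOf D H) := ⟨z, mem_coreOf hz hzH⟩
  let pa : ↥(hh.coreAct H) := ⟨a, ha⟩
  have hfix : ∀ {y : ↥(coreOf D H)}, (y : G) ∈ P → hh.rho H y • pa = pa := fun hy =>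
    hh.rho_fix_iff.2 (mem_stabilizer_iff.1 (hPa hy))
  have hord : ∀ {y : ↥(coreOf D H)}, (y : G) ∈ D → orderOf (hh.rho H y) = 2 := fun hy =>
    hcs.orderOf_eq _ ⟨_, hy, rfl⟩
  have hne : hh.rho H d' ≠ hh.rho H z' := fun e1 => hzd
    (congrArg Subtype.val (hh.rho_injective_of_commute ha hb hba.symm (d := d') (e := z') hd hz
      hzd' e1)).symm
  have hcomm : Commute (hh.rho H d') (hh.rho H z') :=
    Commute.map (show Commute d' z' from Subtype.ext hzd'.eq) _
  obtain ⟨t, Q, hS⟩ := Line.exists_setup_of_noBad hno pa (hord (y := d') hd) (hfix (y := d') hdP)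
    ⟨_, _, hord (y := d') hd, hord (y := z') hz, hne, hcomm⟩
  obtain ⟨Z, K, A⟩ := CfsgLib.RankOne.Small.exists_data hS
    ⟨_, _, Dihedral.ne_one (hord (y := d') hd), Dihedral.ne_one (hord (y := z') hz), hne,
      Dihedral.mul_self (hord (y := d') hd), Dihedral.mul_self (hord (y := z') hz), hcomm.eq⟩
  have hmemZ : ∀ {y : ↥(coreOf D H)}, (y : G) ∈ D → (y : G) ∈ P → hh.rho H y ∈ Z := fun hy hyP =>
    (A.mem_Z _).2 ⟨mem_stabilizer_iff.2 (hfix hyP), Dihedral.mul_self (hord hy)⟩
  have hde : hh.rho H d' * hh.rho H e' = hh.rho H e' * hh.rho H d' :=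
    (A.central _ (hmemZ (y := d') hd hdP)).2 _ (A.central _ (hmemZ (y := e') he heP)).1
  -- faithfulness on 2-groups generated by members
  have hone : d' * e' * d'⁻¹ * e'⁻¹ = 1 := by
    refine (hh.coreSub H).eq_one_of_map_eq_one (f := hh.rho H) (fun _ _ => rfl)
      (hP.comap_subtype (K := coreOf D H)) ?_ ?_
    · have hd'' : d' ∈ Subgroup.closure ({y : ↥(coreOf D H) | (y : G) ∈ D} ∩
          ((P.comap (coreOf D H).subtype : Subgroup ↥(coreOf D H)) : Set ↥(coreOf D H))) :=
        Subgroup.subset_closure ⟨hd, hdP⟩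
      have he'' : e' ∈ Subgroup.closure ({y : ↥(coreOf D H) | (y : G) ∈ D} ∩
          ((P.comap (coreOf D H).subtype : Subgroup ↥(coreOf D H)) : Set ↥(coreOf D H))) :=
        Subgroup.subset_closure ⟨he, heP⟩
      exact mul_mem (mul_mem (mul_mem hd'' he'') (inv_mem hd'')) (inv_mem he'')
    · rw [map_mul, map_mul, map_mul, map_inv, map_inv, hde, mul_inv_cancel_right, mul_inv_cancel]
  have h1 : d' * e' = e' * d' := mul_inv_eq_iff_eq_mul.1 (mul_inv_eq_one.1 hone)
  exact congrArg Subtype.val h1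

/-- A full bad involution gives full data. -/
theorem exists_fullData' {x : G} (hx : IsFullBad D Ω x) :
    ∃ (a : Ω) (R P : Subgroup G), FullData D a x R P :=
  h.exists_fullData h.pairComm hx

end FrontMin

end CfsgLib.LocalEven.OnePointFront
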