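import Cfsg.Agent.Lib.LocalEven.OnePointFront.LineKernel
import Cfsg.Agent.Lib.LocalEven.OnePointFront.LineGlue
import Cfsg.Agent.Lib.LocalEven.OnePointFront.PairComm
import Cfsg.Agent.Lib.LocalEven.OnePointFront.Local.Control

/-!
# A least configuration has no full bad involution
-/

set_option autoImplicit false
set_option linter.style.haveILetI false

namespace CfsgLib.LocalEven.OnePointFront

open MulAction CfsgLib.LocalEven.TIEndgame

universe u

variable {G : Type u} [Group G] [Finite G] {Ω : Type u} [Finite Ω] [MulAction G Ω]
  [FaithfulSMul G Ω] {D : Set G}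

/-- In a least configuration no bad involution is full. -/
theorem FrontMin.noFull (h : FrontMin G Ω D) : NoFull D Ω := by
  intro x hx
  obtain ⟨a, R, P, F⟩ := FrontMin.exists_fullData' h hx
  have hC : ClosedSetting D Ω := h.toClosedSetting
  exact F.false_of_localControl hC (localControl hC F (F.lineFacts hC h.lineComm))
    h.lineComm h.splitHyp h.gen

end CfsgLib.LocalEven.OnePointFront
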