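import Cfsg.Agent.Lib.LocalEven.OnePointFront.Nonfull.GoodNoBad
import Cfsg.Agent.Lib.LocalEven.OnePointFront.Nonfull.Linear.Tower
import Cfsg.Agent.Lib.LocalEven.OnePointFront.Nonfull.Linear.Cyclic
import Cfsg.Agent.Lib.LocalEven.OnePointFront.Nonfull.Curved.Assembly
import Cfsg.Agent.Lib.LocalEven.OnePointFront.Nonfull.Curved.UnitaryIn
import Cfsg.Agent.Lib.LocalEven.OnePointFront.Nonfull.Curved.SuzukiUnmoved

/-!
# No bad involutions in closed settings with good point groups

All pieces on the three kinds of lines.
-/

set_option autoImplicit false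

namespace CfsgLib.LocalEven.OnePointFront

open MulAction CfsgLib.LocalEven.TIEndgame Nonfull

universe u

/-- Closed settings with good point groups have no bad involution. -/
theorem goodNoBad : GoodNoBad.{u} :=
  goodNoBad_of_lines fun _ _ _ _ _ _ _ _ h hnf => ⟨oneClassHyp h.toClosedSetting hnf,
    cyclicHyp h.toClosedSetting h.gen hnf,
    unitaryHyp h.toClosedSetting h.gen hnf (unitaryInHyp h.toClosedSetting hnf),
    suzukiHyp h.toClosedSetting h.gen hnf (suzukiInHyp h.toClosedSetting hnf)⟩

end CfsgLib.LocalEven.OnePointFront
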