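import Cfsg.Agent.Lib.LocalEven.OnePointFront.Basic
import Cfsg.Agent.Lib.LocalEven.OnePointFront.CoreGood
import Cfsg.Agent.Lib.LocalEven.OnePointFront.Data
import Cfsg.Agent.Lib.LocalEven.TIEndgame.Line.Split
import Cfsg.Agent.Lib.LocalEven.TIEndgame.Line.Induced

/-!
# The line of a proper core

In a least configuration the image of a proper core on its points has no bad involution.  If two
commuting members lie at `a` it has a rank-one set-up there: the members at `a` are the involutions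
fixing `a`, the 2-elements fixing `a` are transitive and semiregular on the other points and commute
with these members, and an odd group at `a` normalised by them fixes every point.
-/

set_option autoImplicit false
set_option linter.style.haveILetI false

open Cfsg

namespace CfsgLib.LocalEven.OnePointFront

open MulAction CfsgLib.LocalEven.TIEndgame CfsgLib.RankOne CfsgLib.Involution

universe u

variable {G Ω : Type u} [Group G] [MulAction G Ω]

/-- The 2-elements of the core of `H` fixing `a`. -/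
def transl (D : Set G) (H : Subgroup G) (a : Ω) : Set G :=
  {x | x ∈ coreOf D H ∧ x • a = a ∧ ∃ k : ℕ, x ^ 2 ^ k = 1}

/-- A proper core with points `a`, `b` and two commuting members at `a`. -/
structure LineAt (D : Set G) (H : Subgroup G) (a b : Ω) : Prop where
  proper : coreOf D H ≠ ⊤
  ha : a ∈ ptsOf D Ω H
  hb : b ∈ ptsOf D Ω H
  ne : a ≠ b
  pair : ∃ d ∈ dat D a, ∃ e ∈ dat D a, d ∈ H ∧ e ∈ H ∧ d ≠ e ∧ Commute d e

variable [Finite G] {D : Set G}

/-- The line of a bad involution at a point with two commuting members centralised by it. -/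
theorem ClosedSetting.exists_lineAt [FaithfulSMul G Ω] (h : ClosedSetting D Ω) {x : G}
    (hx : IsBad Ω x) {a : Ω} (hxa : x • a = a) {d e : G} (hd : d ∈ dat D a) (he : e ∈ dat D a)
    (hxd : Commute x d) (hxe : Commute x e) (hne : d ≠ e) (hde : Commute d e) :
    ∃ b : Ω, LineAt D (Subgroup.centralizer {x}) a b := by
  obtain ⟨b, hxb, hba⟩ : ∃ b : Ω, x • b = b ∧ b ≠ a := by
    obtain ⟨-, p, q, hpq, hp, hq⟩ := hx
    by_cases hpa : p = a
    · exact ⟨q, hq, fun e' => hpq (hpa.trans e'.symm)⟩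
    · exact ⟨p, hp, hpa⟩
  have hpts := h.ptsOf_centralizer hx.1
  exact ⟨b, h.coreOf_centralizer_ne_top hx, hpts ▸ hxa, hpts ▸ hxb, hba.symm, d, hd, e, he,
    Subgroup.mem_centralizer_singleton_iff.2 hxd.eq.symm,
    Subgroup.mem_centralizer_singleton_iff.2 hxe.eq.symm, hne, hde⟩

theorem FullData.exists_lineAt [FaithfulSMul G Ω] {a : Ω} {x : G} {R P : Subgroup G}
    (hF : FullData D a x R P) (h : ClosedSetting D Ω) :
    ∃ b : Ω, LineAt D (Subgroup.centralizer {x}) a b := by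
  classical
  obtain ⟨r, hr, hr1⟩ : ∃ r ∈ R, r ≠ 1 := by
    haveI : Nontrivial ↥R := Finite.one_lt_card_iff_nontrivial.1 (by have := hF.four; omega)
    obtain ⟨r, hr⟩ := exists_ne (1 : ↥R)
    exact ⟨r, r.2, fun e => hr (Subtype.ext e)⟩
  obtain ⟨s, hs, hs1, hsr⟩ : ∃ s ∈ R, s ≠ 1 ∧ s ≠ r := by
    by_contra hno
    push Not at hno
    haveI := Fintype.ofFinite ↥R
    have hle := Finset.card_le_card (s := (Finset.univ : Finset ↥R)) (t := {1, ⟨r, hr⟩})
      fun e _ => by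
        rcases eq_or_ne (e : G) 1 with he | he
        · simp [show e = 1 from Subtype.ext he]
        · simp [show e = ⟨r, hr⟩ from Subtype.ext (hno e e.2 he)]
    rw [Finset.card_univ, ← Nat.card_eq_fintype_card] at hle
    have := Finset.card_le_two (a := (1 : ↥R)) (b := ⟨r, hr⟩)
    have := hF.four
    omega
  have hdat : ∀ {d : G}, d ∈ R → d ≠ 1 → d ∈ dat D a := fun hd hd1 =>
    match (hF.mem_iff _).1 hd with
    | Or.inl e => absurd e hd1
    | Or.inr hd' => ⟨hd'.1, hF.top.2.1 hd'.2⟩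
  have hcomm : Commute r s := by
    have h1 := hF.sq _ (mul_mem hr hs)
    show r * s = s * r
    calc r * s = (r * s)⁻¹ := (inv_eq_of_mul_eq_one_right h1).symm
      _ = s⁻¹ * r⁻¹ := mul_inv_rev r s
      _ = s * r := by rw [inv_eq_of_mul_eq_one_right (hF.sq r hr),
          inv_eq_of_mul_eq_one_right (hF.sq s hs)]
  exact h.exists_lineAt hF.bad hF.fix (hdat hr hr1) (hdat hs hs1) (hF.comm r hr) (hF.comm s hs)
    (Ne.symm hsr) hcomm

/-- The two commuting members can be moved to any point of the core. -/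
theorem LineAt.at_point (h : ClosedSetting D Ω) {H : Subgroup G} {a b c : Ω} (L : LineAt D H a b)
    (hc : c ∈ ptsOf D Ω H) : ∃ b' : Ω, LineAt D H c b' := by
  by_cases hca : c = a
  · exact ⟨b, hca ▸ L⟩
  obtain ⟨hne, ha, -, -, d, hd, e, he, hdH, heH, hde, hcomm⟩ := L
  obtain ⟨m, hm, hmH, hmc⟩ := id hc
  obtain ⟨f, hf, hfH, -⟩ := h.exists_swapper_mem (Ne.symm hca) hd hdH ⟨hm, hmc⟩ hmH
  have hmap : ∀ {x : G}, x ∈ dat D a → x ∈ H → f * x * f⁻¹ ∈ dat D c ∧ f * x * f⁻¹ ∈ H :=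
    fun {x} hx hxH => ⟨hf.2 ▸ h.conj_mem_dat f hx, H.mul_mem (H.mul_mem hfH hxH) (H.inv_mem hfH)⟩
  exact ⟨a, hne, hc, ha, hca, f * d * f⁻¹, (hmap hd hdH).1, f * e * f⁻¹, (hmap he heH).1,
    (hmap hd hdH).2, (hmap he heH).2, fun e' => hde (mul_left_cancel (mul_right_cancel e')),
    hcomm.map (MulAut.conj f).toMonoidHom⟩

variable [Finite Ω] [FaithfulSMul G Ω] {H : Subgroup G} {a b : Ω}

/-- The induction on the image of a proper core. -/
theorem FrontMin.core_noBad (h : FrontMin G Ω D) (hne : coreOf D H ≠ ⊤) (ha : a ∈ ptsOf D Ω H)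
    (hb : b ∈ ptsOf D Ω H) (hab : a ≠ b) :
    NoBad ↥(h.toClosedSetting.CoreImg H) ↥(h.toClosedSetting.coreAct H) := by
  haveI : Finite ↥(h.toClosedSetting.coreAct H) := Subtype.finite
  refine h.below _ _ _ ?_ (h.toClosedSetting.coreSetting ha hb hab)
    (h.toClosedSetting.hasGood_core h.good ha hb hab) (h.toClosedSetting.core_gen H)
  refine lt_of_le_of_lt (Nat.card_le_card_of_surjective _ (h.toClosedSetting.rho_surjective H)) ?_
  refine lt_of_le_of_ne (Subgroup.card_le_card_group _) fun e => hne ?_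
  exact Subgroup.eq_top_of_card_eq _ e

/-- An element of a proper core which squares to the identity on the points and fixes two of them
fixes all of them. -/
theorem FrontMin.fix_all_of_sq (h : FrontMin G Ω D) (hne : coreOf D H ≠ ⊤) {z : G}
    (hz : z ∈ coreOf D H) (hzz : ∀ c ∈ ptsOf D Ω H, (z * z) • c = c) (ha : a ∈ ptsOf D Ω H)
    (hb : b ∈ ptsOf D Ω H) (hab : a ≠ b) (hza : z • a = a) (hzb : z • b = b) :
    ∀ c ∈ ptsOf D Ω H, z • c = c := by
  by_contra hno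
  have h1 : h.toClosedSetting.rho H ⟨z, hz⟩ ≠ 1 := fun e =>
    hno fun c hc => h.toClosedSetting.rho_eq_one.1 e c hc
  refine h.core_noBad hne ha hb hab _ ⟨orderOf_eq_prime ?_ h1, ⟨a, ha⟩, ⟨b, hb⟩,
    fun e => hab (congrArg Subtype.val e), h.toClosedSetting.rho_fix_iff.2 hza,
    h.toClosedSetting.rho_fix_iff.2 hzb⟩
  rw [pow_two, ← map_mul]
  exact h.toClosedSetting.rho_eq_one.2 hzz

namespace LineAt

variable (L : LineAt D H a b) (h : FrontMin G Ω D)
include L h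

/-- The image has two commuting involutions and a rank-one set-up at `a`. -/
theorem exists_setup :
    (∃ x y : ↥(h.toClosedSetting.CoreImg H),
      x ≠ 1 ∧ y ≠ 1 ∧ x ≠ y ∧ x * x = 1 ∧ y * y = 1 ∧ x * y = y * x) ∧
    ∃ (t : ↥(h.toClosedSetting.CoreImg H)) (Q : Subgroup ↥(h.toClosedSetting.CoreImg H)),
      IsRankOneSetup ↥(h.toClosedSetting.CoreImg H) ↥(h.toClosedSetting.coreAct H)
        ⟨a, L.ha⟩ t Q := by
  have hC : ClosedSetting D Ω := h.toClosedSetting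
  haveI := hC.nontrivial_coreAct L.ha L.hb L.ne
  have hS := hC.coreSetting L.ha L.hb L.ne
  haveI : IsPretransitive ↥(hC.CoreImg H) ↥(hC.coreAct H) :=
    ⟨fun p q => hS.exists_move hS.covers p q⟩
  obtain ⟨d, hd, e, he, hdH, heH, hne, hde⟩ := L.pair
  set p : ↥(coreOf D H) := ⟨d, mem_coreOf hd.1 hdH⟩
  set q : ↥(coreOf D H) := ⟨e, mem_coreOf he.1 heH⟩
  have hp : hC.rho H p ∈ hC.imgD H := ⟨p, hd.1, rfl⟩
  have hq : hC.rho H q ∈ hC.imgD H := ⟨q, he.1, rfl⟩
  have h2 : ∃ x y : ↥(hC.CoreImg H),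
      x ≠ 1 ∧ y ≠ 1 ∧ x ≠ y ∧ x * x = 1 ∧ y * y = 1 ∧ x * y = y * x := by
    refine ⟨hC.rho H p, hC.rho H q, Dihedral.ne_one (hS.orderOf_eq _ hp),
      Dihedral.ne_one (hS.orderOf_eq _ hq), fun e' => hne (congrArg Subtype.val
        (hC.rho_injective_of_commute L.ha L.hb L.ne (d := p) (e := q) hd.1 he.1 hde e')),
      hS.mul_self hp, hS.mul_self hq, ?_⟩
    rw [← map_mul, ← map_mul, show p * q = q * p from Subtype.ext hde.eq]
  refine ⟨h2, ?_⟩
  exact TIEndgame.Line.exists_setup_of_noBad (h.core_noBad L.proper L.ha L.hb L.ne) _ (hS.orderOf_eq _ hp)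
    (hC.rho_fix_iff.2 hd.2) (BenderSplit.orderOf_pair h2)

/-- A 2-element of the core at `a` fixing another point fixes all of them. -/
theorem fix_all_of_two {x : G} (hx : x ∈ transl D H a) {p : Ω} (hp : p ∈ ptsOf D Ω H)
    (hpa : p ≠ a) (hxp : x • p = p) : ∀ c ∈ ptsOf D Ω H, x • c = c := by
  obtain ⟨-, t, Q, hS⟩ := L.exists_setup h
  obtain ⟨hxc, hxa, k, hk⟩ := hx
  have hC : ClosedSetting D Ω := h.toClosedSetting
  have hQ : hC.rho H ⟨x, hxc⟩ ∈ Q :=
    TIEndgame.Line.mem_of_two_power hS (hC.rho_fix_iff.2 hxa)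
      (k := k) (by rw [← map_pow, show (⟨x, hxc⟩ : ↥(coreOf D H)) ^ 2 ^ k = 1 from Subtype.ext hk,
        map_one])
  exact hC.rho_eq_one.1 (RankOne.eq_one_of_fix hS hQ (b := ⟨p, hp⟩)
    (fun e => hpa (congrArg Subtype.val e)) (hC.rho_fix_iff.2 hxp))

/-- The 2-elements of the core at `a` are transitive on the other points. -/
theorem exists_translation {p q : Ω} (hp : p ∈ ptsOf D Ω H) (hpa : p ≠ a) (hq : q ∈ ptsOf D Ω H)
    (hqa : q ≠ a) : ∃ x ∈ transl D H a, x • p = q := by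
  obtain ⟨h2, t, Q, hS⟩ := L.exists_setup h
  have hC : ClosedSetting D Ω := h.toClosedSetting
  have hQp := isPGroup_Q hS h2
  obtain ⟨γ, hγ, -⟩ := RankOne.regular hS (b := ⟨p, hp⟩) (c := ⟨q, hq⟩)
    (fun e => hpa (congrArg Subtype.val e)) (fun e => hqa (congrArg Subtype.val e))
  obtain ⟨y, hy⟩ := hC.rho_surjective H (γ : ↥(hC.CoreImg H))
  obtain ⟨k, hk⟩ := IsPGroup.exists_orderOf_eq_pow hQp γ
  rw [← Subgroup.orderOf_coe, ← hy] at hk
  obtain ⟨j, m, hm, hjm⟩ : ∃ j m : ℕ, Odd m ∧ orderOf y = 2 ^ j * m := by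
    obtain ⟨j, m, hm, hjm⟩ :=
      Nat.exists_eq_pow_mul_and_not_dvd (orderOf_pos y).ne' 2 (by norm_num)
    exact ⟨j, m, Nat.not_even_iff_odd.1 (fun e => hm (even_iff_two_dvd.1 e)), hjm⟩
  obtain ⟨i, hi⟩ := exists_pow_eq_self_of_coprime (x := hC.rho H y) (n := m)
    (by rw [hk]; exact Nat.Coprime.pow_right k (Nat.coprime_two_right.2 hm))
  refine ⟨((y ^ m) ^ i : ↥(coreOf D H)), ⟨((y ^ m) ^ i).2, ?_, j, ?_⟩, ?_⟩
  · suffices hh : hC.rho H ((y ^ m) ^ i) • (⟨a, L.ha⟩ : ↥(hC.coreAct H)) = ⟨a, L.ha⟩ from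
      hC.rho_fix_iff.1 hh
    rw [map_pow, map_pow, hi, hy]
    exact hS.le γ.2
  · rw [← SubgroupClass.coe_pow, ← pow_mul, ← pow_mul, show m * (i * 2 ^ j) = 2 ^ j * m * i by ring,
      pow_mul, ← hjm, pow_orderOf_eq_one, one_pow, OneMemClass.coe_one]
  · refine congrArg Subtype.val (show hC.rho H ((y ^ m) ^ i) • (⟨p, hp⟩ : ↥(hC.coreAct H)) = ⟨q, hq⟩ from ?_)
    rw [map_pow, map_pow, hi, hy]
    exact hγ

/-- An involution of the image at `a` is the image of a member at `a`. -/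
theorem exists_member_of_sq {z : G} (hz : z ∈ coreOf D H) (hza : z • a = a)
    (hzz : ∀ c ∈ ptsOf D Ω H, (z * z) • c = c) :
    (∀ c ∈ ptsOf D Ω H, z • c = c) ∨
      ∃ d ∈ dat D a, d ∈ H ∧ ∀ c ∈ ptsOf D Ω H, z • c = d • c := by
  obtain ⟨-, t, Q, hS⟩ := L.exists_setup h
  have hC : ClosedSetting D Ω := h.toClosedSetting
  have hS' := hC.coreSetting L.ha L.hb L.ne
  set γ := hC.rho H ⟨z, hz⟩ with hγ
  by_cases h1 : γ = 1
  · exact Or.inl (hC.rho_eq_one.1 h1)
  refine Or.inr ?_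
  obtain ⟨d, hd, -, -, hdH, -⟩ := L.pair
  set p : ↥(coreOf D H) := ⟨d, mem_coreOf hd.1 hdH⟩
  have hp : hC.rho H p ∈ hC.imgD H := ⟨p, hd.1, rfl⟩
  obtain ⟨κ, hκ, hκs⟩ := exists_conj_inverted hS (s := hC.rho H p) (s' := γ)
    ⟨hC.rho_fix_iff.2 hd.2, Dihedral.ne_one (hS'.orderOf_eq _ hp), hS'.mul_self hp⟩
    ⟨hC.rho_fix_iff.2 hza, h1, by rw [hγ, ← map_mul]; exact hC.rho_eq_one.2 hzz⟩
  obtain ⟨e, he, hee⟩ : γ ∈ hC.imgD H := by
    have := hS'.conj_mem κ⁻¹ _ hp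
    rwa [inv_inv, hκs] at this
  have hea : h.toClosedSetting.rho H e • (⟨a, L.ha⟩ : ↥(h.toClosedSetting.coreAct H)) = ⟨a, L.ha⟩ :=
    hee.symm ▸ hC.rho_fix_iff.2 hza
  exact ⟨e, ⟨he, hC.rho_fix_iff.1 hea⟩, coreOf_le D H e.2,
    fun c hc => hC.rho_eq_iff.1 hee.symm c hc⟩

/-- The 2-elements of the core at `a` commute on the points with the members at `a` in it. -/
theorem commute_member {x d : G} (hx : x ∈ transl D H a) (hd : d ∈ dat D a) (hdH : d ∈ H) :
    ∀ c ∈ ptsOf D Ω H, (d * x) • c = (x * d) • c := by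
  obtain ⟨h2, t, Q, hS⟩ := L.exists_setup h
  obtain ⟨Z, K, A⟩ := Small.exists_data hS h2
  obtain ⟨hxc, hxa, k, hk⟩ := hx
  have hC : ClosedSetting D Ω := h.toClosedSetting
  have hQ : hC.rho H ⟨x, hxc⟩ ∈ Q :=
    TIEndgame.Line.mem_of_two_power hS (hC.rho_fix_iff.2 hxa)
      (k := k) (by rw [← map_pow, show (⟨x, hxc⟩ : ↥(coreOf D H)) ^ 2 ^ k = 1 from Subtype.ext hk,
        map_one])
  have hZ : hC.rho H ⟨d, mem_coreOf hd.1 hdH⟩ ∈ Z := (A.mem_Z _).2
    ⟨hC.rho_fix_iff.2 hd.2, by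
      rw [← map_mul, show (⟨d, mem_coreOf hd.1 hdH⟩ : ↥(coreOf D H)) * ⟨d, mem_coreOf hd.1 hdH⟩ = 1
        from Subtype.ext (hC.mul_self hd.1), map_one]⟩
  intro c hc
  suffices hh : hC.rho H (⟨d, mem_coreOf hd.1 hdH⟩ * ⟨x, hxc⟩) =
      hC.rho H (⟨x, hxc⟩ * ⟨d, mem_coreOf hd.1 hdH⟩) from hC.rho_eq_iff.1 hh c hc
  rw [map_mul, map_mul]
  exact (A.central _ hZ).2 _ hQ

/-- The members at `a` in the core commute on the points. -/
theorem commute_members {d e : G} (hd : d ∈ dat D a) (hdH : d ∈ H) (he : e ∈ dat D a)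
    (heH : e ∈ H) : ∀ c ∈ ptsOf D Ω H, (d * e) • c = (e * d) • c :=
  L.commute_member h ⟨mem_coreOf he.1 heH, he.2, 1, by
    rw [pow_one, pow_two, h.toClosedSetting.mul_self he.1]⟩ hd hdH

/-- What commutes on the points with the 2-elements of the core at `a` and fixes `a` and another
point fixes all of them. -/
theorem fix_all_of_commute {y : G} (hya : y • a = a) {p : Ω} (hp : p ∈ ptsOf D Ω H) (hpa : p ≠ a)
    (hyp : y • p = p)
    (hcomm : ∀ x ∈ transl D H a, ∀ c ∈ ptsOf D Ω H, (y * x) • c = (x * y) • c) :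
    ∀ c ∈ ptsOf D Ω H, y • c = c := by
  intro c hc
  by_cases hca : c = a
  · rw [hca, hya]
  obtain ⟨x, hx, rfl⟩ := L.exists_translation h hp hpa hc hca
  rw [← mul_smul, hcomm x hx p hp, mul_smul, hyp]

/-- An odd group at `a` normalised by the 2-elements of the core at `a` fixes all the points. -/
theorem fix_all_of_odd_normalised {Y : Subgroup G} (hY : Y ≤ H ⊓ stabilizer G a)
    (hodd : Odd (Nat.card Y)) (hnorm : ∀ x ∈ transl D H a, ∀ y ∈ Y, x * y * x⁻¹ ∈ Y) :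
    ∀ y ∈ Y, ∀ c ∈ ptsOf D Ω H, y • c = c := by
  obtain ⟨h2, t, Q, hS⟩ := L.exists_setup h
  have hC : ClosedSetting D Ω := h.toClosedSetting
  have hQp := isPGroup_Q hS h2
  have htriv : ∀ g : ↥(coreOf D H), hC.rho H g ∈ Q → (g : G) ∈ Y → hC.rho H g = 1 := by
    intro g hg hgY
    obtain ⟨k, hk⟩ := IsPGroup.exists_orderOf_eq_pow hQp (⟨_, hg⟩ : Q)
    rw [Subgroup.orderOf_mk] at hk
    have hd : orderOf (hC.rho H g) ∣ Nat.card Y :=
      (orderOf_map_dvd _ g).trans ((Subgroup.orderOf_coe g).symm ▸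
        Subgroup.orderOf_dvd_natCard _ hgY)
    have h1 : 2 ^ k ∣ 1 :=
      (Nat.Coprime.pow_left k (Nat.coprime_two_left.2 hodd)).dvd_of_dvd_mul_left
        (by rw [mul_one]; exact hk ▸ hd)
    exact orderOf_eq_one_iff.1 (hk.trans (Nat.dvd_one.1 h1))
  have htwo : ∀ x ∈ transl D H a, ∀ hxc : x ∈ coreOf D H, hC.rho H ⟨x, hxc⟩ ∈ Q := by
    rintro x ⟨-, hxa, k, hk⟩ hxc
    exact TIEndgame.Line.mem_of_two_power hS (hC.rho_fix_iff.2 hxa)
      (k := k) (by rw [← map_pow, show (⟨x, hxc⟩ : ↥(coreOf D H)) ^ 2 ^ k = 1 from Subtype.ext hk,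
        map_one])
  have hcomm : ∀ y ∈ Y, ∀ x ∈ transl D H a, ∀ c ∈ ptsOf D Ω H, (y * x) • c = (x * y) • c := by
    intro y hy x hx c hc
    have hyH : y ∈ H := (hY hy).1
    have hxc : x ∈ coreOf D H := hx.1
    have hz : y * x * y⁻¹ ∈ coreOf D H := hC.conj_mem_coreOf hyH hxc
    have hz2 : y * x * y⁻¹ ∈ transl D H a := by
      obtain ⟨-, hxa, k, hk⟩ := hx
      have hyi : y⁻¹ • a = a :=
        inv_smul_eq_iff.2 (mem_stabilizer_iff.1 (hY hy).2).symm
      exact ⟨hz, by rw [mul_smul, mul_smul, hyi, hxa, mem_stabilizer_iff.1 (hY hy).2], k,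
        by rw [conj_pow, hk, mul_one, mul_inv_cancel]⟩
    have hone : hC.rho H (⟨y * x * y⁻¹, hz⟩ * ⟨x, hxc⟩⁻¹) = 1 := by
      refine htriv _ ?_ ?_
      · rw [map_mul, map_inv]
        exact mul_mem (htwo _ hz2 hz) (inv_mem (htwo x hx hxc))
      · show y * x * y⁻¹ * x⁻¹ ∈ Y
        rw [show y * x * y⁻¹ * x⁻¹ = y * (x * y⁻¹ * x⁻¹) by group]
        exact Y.mul_mem hy (hnorm x hx _ (inv_mem hy))
    rw [map_mul, map_inv, mul_inv_eq_one, hC.rho_eq_iff] at hone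
    have := hone (y • c) (hC.smul_mem_ptsOf hyH hc)
    rw [← mul_smul, inv_mul_cancel_right] at this
    rwa [mul_smul x]
  intro y hy
  obtain ⟨hyH, hya⟩ := hY hy
  have hyb : y • b ∈ ptsOf D Ω H := hC.smul_mem_ptsOf hyH L.hb
  have hyba : y • b ≠ a := fun e =>
    L.ne.symm (smul_left_cancel y (e.trans (mem_stabilizer_iff.1 hya).symm))
  obtain ⟨x, hx, hxb⟩ := L.exists_translation h L.hb L.ne.symm hyb hyba
  have hxpts : ∀ n : ℕ, x ^ n • b ∈ ptsOf D Ω H := fun n =>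
    hC.smul_mem_ptsOf (coreOf_le D H (pow_mem hx.1 n)) L.hb
  have hpow : ∀ n : ℕ, y ^ n • b = x ^ n • b := by
    intro n
    induction n with
    | zero => simp
    | succ n ih =>
      have hxn : x ^ n ∈ transl D H a := by
        refine ⟨pow_mem hx.1 n, pow_mem (show x ∈ stabilizer G a from hx.2.1) n, hx.2.2.choose, ?_⟩
        rw [← pow_mul, mul_comm, pow_mul, hx.2.2.choose_spec, one_pow]
      rw [pow_succ', mul_smul, ih, ← mul_smul, hcomm y hy _ hxn b L.hb, mul_smul, ← hxb, ← mul_smul,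
        ← pow_succ]
  set n := orderOf y with hn
  have hnodd : Odd n := hodd.of_dvd_nat (Subgroup.orderOf_dvd_natCard _ hy)
  have hxn : x ^ n • b = b := by rw [← hpow n, hn, pow_orderOf_eq_one, one_smul]
  have hxn' : x ^ n ∈ transl D H a := by
    refine ⟨pow_mem hx.1 n, pow_mem (show x ∈ stabilizer G a from hx.2.1) n, hx.2.2.choose, ?_⟩
    rw [← pow_mul, mul_comm, pow_mul, hx.2.2.choose_spec, one_pow]
  have hfix := L.fix_all_of_two h hxn' L.hb L.ne.symm hxn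
  set γ := hC.rho H ⟨x, hx.1⟩ with hγ
  have h1 : γ ^ n = 1 := by
    rw [hγ, ← map_pow]
    exact hC.rho_eq_one.2 hfix
  have h3 : γ ^ 2 ^ hx.2.2.choose = 1 := by
    rw [hγ, ← map_pow, show (⟨x, hx.1⟩ : ↥(coreOf D H)) ^ 2 ^ hx.2.2.choose = 1 from
      Subtype.ext hx.2.2.choose_spec, map_one]
  have hγ1 : γ = 1 := by
    obtain ⟨i, hi⟩ := exists_pow_eq_self_of_coprime (x := γ) (n := n)
      ((Nat.Coprime.pow_right _ (Nat.coprime_two_right.2 hnodd)).coprime_dvd_right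
        (orderOf_dvd_of_pow_eq_one h3))
    rw [← hi, h1, one_pow]
  refine L.fix_all_of_commute h (mem_stabilizer_iff.1 hya) L.hb L.ne.symm ?_ (hcomm y hy)
  rw [← hxb]
  exact hC.rho_eq_one.1 hγ1 b L.hb

end LineAt

end CfsgLib.LocalEven.OnePointFront
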