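import Cfsg.Agent.Lib.LocalEven.OnePointFront.LineKernelChain
import Cfsg.Agent.Lib.LocalEven.OnePointFront.Abelian
import Cfsg.Agent.Lib.LocalEven.OnePointFront.Local.Quotient

/-!
# The kernel of the line of a full bad involution is trivial

With local control at the trivial subgroup, the chain of `LineKernelChain` shows that the kernel of
the line of a full bad involution `x` fixes the fixed points of every `x * r`, hence, moved along
the core of `x`, every point.  So the members of a point commute.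
-/

set_option autoImplicit false
set_option linter.style.haveILetI false
set_option linter.unusedSectionVars false

namespace CfsgLib.LocalEven.OnePointFront

open MulAction Subgroup CfsgLib.LocalEven.TIEndgame CfsgLib.Involution
open scoped commutatorElement

universe u

variable {G Ω : Type u} [Group G] [Finite G] [MulAction G Ω] [Finite Ω] [FaithfulSMul G Ω]
  {D : Set G} {a : Ω} {x : G} {R P : Subgroup G}

namespace FullData

variable (F : FullData D a x R P) (h : ClosedSetting D Ω)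
include F h

theorem coreOf_centralizer_ne_top : coreOf D (centralizer {x}) ≠ ⊤ := by
  intro htop
  refine Dihedral.ne_one F.bad.1 (FaithfulSMul.eq_of_smul_eq_smul (α := Ω) fun c => ?_)
  obtain ⟨d, hd, hdc⟩ := OnePoint.dat_nonempty h.covers c
  have hdx : d ∈ centralizer ({x} : Set G) := coreOf_le D _ (htop ▸ mem_top d)
  rw [one_smul, h.toOnePoint.fix_of_commute hd hdc (mem_centralizer_singleton_iff.1 hdx)]

theorem lineKer_le_stabilizer : lineKer D Ω x ≤ stabilizer G a := fun _ hk =>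
  mem_stabilizer_iff.2 (smul_eq_of_lineKer hk F.fix)

omit h in
theorem R_sq {r : G} (hr : r ∈ R) : r * r = 1 := F.sq r hr

omit h in
theorem R_inv {r : G} (hr : r ∈ R) : r⁻¹ = r := inv_eq_of_mul_eq_one_right (F.sq r hr)

variable (hLC : LocalControl a R)
include hLC

/-- `R` is normal in the stabiliser modulo its odd core. -/
theorem conj_mem_core_sup {g r : G} (hg : g ∈ stabilizer G a) (hr : r ∈ R) :
    g * r * g⁻¹ ∈ oddIn (stabilizer G a) ⊔ R := by
  have hC : stabilizer G a ⊓ centralizer ((⊥ : Subgroup G) : Set G) = stabilizer G a :=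
    inf_eq_left.2 fun _ _ => mem_centralizer_iff.2 (by
      intro y hy
      rw [show y = 1 from (mem_bot).1 hy, one_mul, mul_one])
  have := hLC ⊥ bot_le g (by rwa [hC]) r hr
  rwa [hC] at this

omit h in
theorem mem_core_of_odd {t : G} (ht : Odd (orderOf t))
    (htm : t ∈ oddIn (stabilizer G a) ⊔ R) : t ∈ oddIn (stabilizer G a) :=
  mem_left_of_odd (fun _ hr => le_normalizer_oddIn _ (F.le_stabilizer hr)) F.sq ht htm

variable (hcomm : LineComm D Ω)
include hcomm

/-- Commutators of elements of the odd core commuting with `x` with `R` lie in the line kernel. -/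
theorem comm_mem_lineKer {k s : G} (hk : k ∈ oddIn (stabilizer G a)) (hxk : Commute x k)
    (hs : s ∈ R) : k * s * k⁻¹ * s⁻¹ ∈ lineKer D Ω x := by
  by_cases hs1 : s = 1
  · rw [hs1]
    simp [one_mem]
  set X := oddIn (stabilizer G a)
  have hka : k ∈ stabilizer G a := oddIn_le _ hk
  have hc : k * s * k⁻¹ * s⁻¹ ∈ X := by
    rw [show k * s * k⁻¹ * s⁻¹ = k * (s * k⁻¹ * s⁻¹) by group]
    exact mul_mem hk (conj_mem_oddIn (F.le_stabilizer hs) (inv_mem hk))
  obtain ⟨hfD, hfa⟩ : k * s * k⁻¹ ∈ dat D a := by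
    have := h.toOnePoint.conj_mem_dat k (F.mem_dat hs hs1)
    rwa [mem_stabilizer_iff.1 hka] at this
  obtain ⟨t, ht, r, hr, e⟩ := F.exists_lineKer_mul h (hcomm x F.bad F.exists_pair) hfD
    ((hxk.mul_right (F.comm s hs)).mul_right hxk.inv_right) hfa
  have htX : t ∈ X := by
    refine F.mem_core_of_odd hLC ((F.odd_lineKer h (hcomm x F.bad F.exists_pair)).of_dvd_nat
      (Subgroup.orderOf_dvd_natCard _ ht)) ?_
    rw [show t = k * s * k⁻¹ * s⁻¹ * (s * r⁻¹) by rw [e]; group]
    exact mul_mem (mem_sup_left hc) (mem_sup_right (mul_mem hs (inv_mem hr)))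
  have hrs : r * s⁻¹ = 1 := by
    have h1 : r * s⁻¹ ∈ X := by
      rw [show r * s⁻¹ = t⁻¹ * (k * s * k⁻¹ * s⁻¹) by rw [e]; group]
      exact mul_mem (inv_mem htX) hc
    have hodd := (odd_card_oddIn (stabilizer G a)).of_dvd_nat (Subgroup.orderOf_dvd_natCard _ h1)
    exact mem_bot.1 (ZStar.mem_of_sq_mem (N := ⊥) hodd (mem_bot.2 (F.sq _ (mul_mem hr (inv_mem hs)))))
  rwa [e, mul_assoc, hrs, mul_one]

omit hLC in
/-- The odd core of the centraliser of `R` and `x` at `a` fixes the fixed points of `x`. -/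
theorem cent_fix (hsplit : SplitHyp D Ω) {z : G}
    (hz : z ∈ oddIn (stabilizer G a ⊓ centralizer (R : Set G) ⊓ centralizer {x})) {c : Ω}
    (hc : x • c = c) : z • c = c := by
  set H := centralizer ({x} : Set G) with hH
  set Cz := stabilizer G a ⊓ centralizer (R : Set G) ⊓ centralizer {x} with hCz
  have hzC : z ∈ Cz := oddIn_le _ hz
  obtain ⟨⟨hza, -⟩, hzx⟩ := (show (z ∈ stabilizer G a ∧ z ∈ centralizer (R : Set G)) ∧ z ∈ H from
    ⟨Subgroup.mem_inf.1 (Subgroup.mem_inf.1 hzC).1, (Subgroup.mem_inf.1 hzC).2⟩)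
  obtain ⟨b, hb, hba⟩ := F.exists_second
  have hpts := ptsOf_centralizer h F.bad.1
  refine fix_ptsOf_of_split h (F.splitAt hsplit (F.coreOf_centralizer_ne_top h) F.R_le_centralizer
    (b := b) (hpts ▸ hb) hba) hzx (mem_stabilizer_iff.1 hza)
    ((odd_card_oddIn _).of_dvd_nat (Subgroup.orderOf_dvd_natCard _ hz))
    (fun q hq hqa _ => ?_) c (hpts ▸ hc)
  set T := lineKer D Ω x with hT
  have hRT : R ≤ normalizer (T : Set G) := fun r hr => Coprime.mem_normalizer_of_conj_map_le
    fun k hk => conj_mem_lineKer h (F.comm r hr) hk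
  have hqx : Commute x q := (mem_centralizer_singleton_iff.1 (coreOf_le D _ hq)).symm
  obtain ⟨t, ht, htq⟩ := HullGen.exists_normalizer F h.toOnePoint.conj_mem (H := T ⊔ R)
    (sup_le (F.lineKer_le_stabilizer h) F.le_stabilizer) le_sup_right (k := q) (fun r hr => by
      by_cases hr1 : r = 1
      · simp [hr1, one_mem]
      have hd : q * r * q⁻¹ ∈ dat D a := by
        have := h.toOnePoint.conj_mem_dat q (F.mem_dat hr hr1)
        rwa [hqa] at this
      obtain ⟨k, hk, r', hr', e⟩ := F.exists_lineKer_mul h (hcomm x F.bad F.exists_pair) hd.1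
        ((hqx.mul_right (F.comm r hr)).mul_right hqx.inv_right) hd.2
      rw [e]
      exact mul_mem (mem_sup_left hk) (mem_sup_right hr'))
  obtain ⟨t₀, ht₀, r₀, hr₀, rfl⟩ := (Coprime.mem_sup_of_le_normalizer hRT).1 ht
  set t₁ := r₀⁻¹ * t₀ * r₀ with ht₁def
  have ht₁ : t₁ ∈ T := by
    have := (mem_normalizer_iff.1 (hRT (inv_mem hr₀)) t₀).1 ht₀
    rwa [inv_inv] at this
  have hn : t₁ * q ∈ normalizer (R : Set G) := by
    rw [show t₁ * q = r₀⁻¹ * (t₀ * r₀ * q) by rw [ht₁def]; group]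
    exact mul_mem (inv_mem (Subgroup.le_normalizer hr₀)) htq
  have hqL : t₁ * q ∈ coreOf D H := mul_mem (mem_lineKer.1 ht₁).1 hq
  have hq'a : (t₁ * q) • a = a := by rw [mul_smul, hqa, smul_eq_of_lineKer ht₁ F.fix]
  refine ⟨t₁ * q, hqL, fun p hp => ?_, hq'a, ?_⟩
  · rw [mul_smul]
    refine smul_eq_of_lineKer ht₁ ?_
    have := smul_mem_ptsOf h (coreOf_le D _ hq) hp
    rwa [hpts] at this
  · refine (odd_card_oddIn Cz).of_dvd_nat (Subgroup.orderOf_dvd_natCard _ ?_)
    rw [show z * (t₁ * q) * z⁻¹ * (t₁ * q)⁻¹ = z * ((t₁ * q) * z⁻¹ * (t₁ * q)⁻¹) by group]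
    refine mul_mem hz (conj_oddIn_mem (C := Cz) (C' := Cz) (fun y => ?_) (inv_mem hz))
    have key : ∀ g : G, g • a = a → g ∈ normalizer (R : Set G) → Commute x g → ∀ y ∈ Cz,
        g * y * g⁻¹ ∈ Cz := by
      intro g hga hgR hgx y hy
      obtain ⟨hy', hyx⟩ := Subgroup.mem_inf.1 hy
      obtain ⟨hya, hyR⟩ := Subgroup.mem_inf.1 hy'
      refine Subgroup.mem_inf.2 ⟨Subgroup.mem_inf.2 ⟨mul_mem (mul_mem (mem_stabilizer_iff.2 hga) hya)
        (inv_mem (mem_stabilizer_iff.2 hga)), mem_centralizer_iff.2 fun r hr => ?_⟩, ?_⟩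
      · have h1 : g⁻¹ * r * g ∈ R := by
          have := (mem_normalizer_iff.1 (inv_mem hgR) r).1 hr
          rwa [inv_inv] at this
        have h2 := mem_centralizer_iff.1 hyR _ h1
        calc r * (g * y * g⁻¹) = g * ((g⁻¹ * r * g) * y) * g⁻¹ := by group
          _ = g * (y * (g⁻¹ * r * g)) * g⁻¹ := by rw [h2]
          _ = g * y * g⁻¹ * r := by group
      · exact mem_centralizer_singleton_iff.2 ((hgx.mul_right
          (mem_centralizer_singleton_iff.1 hyx).symm).mul_right hgx.inv_right).eq.symm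
    have hxq' : Commute x (t₁ * q) := (mem_centralizer_singleton_iff.1 (coreOf_le D _ hqL)).symm
    refine ⟨fun hy => ?_, key _ hq'a hn hxq' y⟩
    have := key _ (inv_smul_eq_iff.2 hq'a.symm) (inv_mem hn) hxq'.inv_right _ hy
    rwa [inv_inv, show (t₁ * q)⁻¹ * (t₁ * q * y * (t₁ * q)⁻¹) * (t₁ * q) = y by group] at this

variable (hsplit : SplitHyp D Ω)
include hsplit

/-- A prime part of the line kernel fixes the fixed points of `x * r`. -/
theorem sylow_lineKer_fix {p : ℕ} [Fact p.Prime] (S : Sylow p (lineKer D Ω x))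
    (hS : R ⊔ zpowers x ≤
      normalizer (((S : Subgroup (lineKer D Ω x)).map (lineKer D Ω x).subtype : Subgroup G) : Set G))
    {r : G} (hr : r ∈ R) {k : G} (hk : k ∈ (S : Subgroup (lineKer D Ω x)).map (lineKer D Ω x).subtype)
    {c : Ω} (hc : (x * r) • c = c) : k • c = c := by
  classical
  set A : Subgroup G := R ⊔ zpowers x with hA
  set P₁ := (S : Subgroup (lineKer D Ω x)).map (lineKer D Ω x).subtype with hP₁
  set X := oddIn (stabilizer G a) with hX
  have hYodd : Odd (Nat.card (lineKer D Ω x)) := F.odd_lineKer h (hcomm x F.bad F.exists_pair)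
  have hP₁Y : P₁ ≤ (lineKer D Ω x) := map_subtype_le _
  have hAx : A ≤ centralizer {x} :=
    sup_le F.R_le_centralizer (zpowers_le.2 (mem_centralizer_singleton_iff.2 rfl))
  have hAY : A ≤ normalizer ((lineKer D Ω x) : Set G) := fun g hg => Coprime.mem_normalizer_of_conj_map_le
    fun t ht => conj_mem_lineKer h (mem_centralizer_singleton_iff.1 (hAx hg)).symm ht
  have hAa : A ≤ stabilizer G a :=
    sup_le F.le_stabilizer (zpowers_le.2 (mem_stabilizer_iff.2 F.fix))
  have hAX : A ≤ normalizer (X : Set G) := fun g hg => le_normalizer_oddIn _ (hAa hg)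
  have hRP₁ : R ≤ normalizer (P₁ : Set G) := le_trans (le_sup_left : R ≤ A) hS
  have hP₁odd : Odd (Nat.card P₁) := hYodd.of_dvd_nat (card_dvd_of_le hP₁Y)
  have hRcop : (Nat.card R).Coprime (Nat.card P₁) :=
    Nat.Coprime.coprime_dvd_left (card_dvd_of_le le_sup_left) (F.full_coprime hP₁odd)
  have hRsol : Group.IsSolvable R := Coprime.isSolvable_of_le le_sup_left F.full_solvable
  -- the fixed part
  have hcentR : P₁ ⊓ centralizer (R : Set G) ≤ fixingSubgroup G {c : Ω | (x * r) • c = c} := by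
    intro y hy
    refine (mem_fixingSubgroup_iff G).2 fun d hd => (F.mul_right hr).cent_fix h hcomm hsplit ?_ hd
    have hCeq : stabilizer G a ⊓ centralizer (R : Set G) ⊓ centralizer {x * r} =
        stabilizer G a ⊓ centralizer (R : Set G) ⊓ centralizer {x} := by
      ext g
      simp only [Subgroup.mem_inf, mem_centralizer_singleton_iff, and_congr_right_iff, and_imp]
      intro _ hgR
      have hgr : g * r = r * g := (mem_centralizer_iff.1 hgR r hr).symm
      constructor
      · intro e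
        calc g * x = g * (x * r) * r⁻¹ := by group
          _ = x * r * g * r⁻¹ := by rw [e]
          _ = x * (g * r) * r⁻¹ := by rw [hgr]; group
          _ = x * g := by group
      · intro e
        rw [← mul_assoc, e, mul_assoc, hgr, mul_assoc]
    rw [hCeq]
    set Cz := stabilizer G a ⊓ centralizer (R : Set G) ⊓ centralizer {x}
    refine le_oddIn (C := Cz) (N := (lineKer D Ω x) ⊓ centralizer (R : Set G)) ?_ ?_
      (hYodd.of_dvd_nat (card_dvd_of_le inf_le_left)) ⟨hP₁Y hy.1, hy.2⟩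
    · exact le_inf (le_inf (inf_le_left.trans (F.lineKer_le_stabilizer h)) inf_le_right)
        (inf_le_left.trans fun t ht => mem_centralizer_singleton_iff.2 (commute_of_lineKer ht).eq.symm)
    · intro g hg
      obtain ⟨hg', hgx⟩ := Subgroup.mem_inf.1 hg
      refine Coprime.mem_normalizer_of_conj_map_le fun t ht => Subgroup.mem_inf.2
        ⟨conj_mem_lineKer h (mem_centralizer_singleton_iff.1 hgx).symm (Subgroup.mem_inf.1 ht).1, ?_⟩
      exact mul_mem (mul_mem (Subgroup.mem_inf.1 hg').2 (Subgroup.mem_inf.1 ht).2)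
        (inv_mem (Subgroup.mem_inf.1 hg').2)
  have hsup := Coprime.commutator_sup_centralizer hRP₁ hRcop (Or.inl hRsol)
  set P₀ := P₁ ⊓ X with hP₀
  have hcommX : ⁅P₁, R⁆ ≤ P₀ := by
    refine commutator_le.2 fun y hy s hs => ?_
    have h1 : ⁅y, s⁆ ∈ P₁ := le_normalizer_iff_commutator_le_left.1 hRP₁ (commutator_mem_commutator hy hs)
    refine ⟨h1, F.mem_core_of_odd hLC (hP₁odd.of_dvd_nat (Subgroup.orderOf_dvd_natCard _ h1)) ?_⟩
    exact mul_mem (F.conj_mem_core_sup h hLC (F.lineKer_le_stabilizer h (hP₁Y hy)) hs)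
      (mem_sup_right (inv_mem hs))
  by_cases hP₀R : P₀ ≤ centralizer (R : Set G)
  · have hle : P₁ ≤ fixingSubgroup G {c : Ω | (x * r) • c = c} := by
      refine hsup.ge.trans (sup_le (le_trans ?_ bot_le) hcentR)
      rw [← Coprime.commutator_commutator_self hRP₁ hRcop (Or.inl hRsol)]
      exact (commutator_eq_bot_iff_le_centralizer.2 (hcommX.trans hP₀R)).le
    exact (mem_fixingSubgroup_iff G).1 (hle hk) c hc
  -- elements of `R` centralising a part of `P₀` not centralised by `R`
  let good : G → Prop := fun r => ∃ t ∈ P₀, Commute r t ∧ t ∉ centralizer (R : Set G)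
  have hP₀A : A ≤ normalizer (P₀ : Set G) := (le_inf hS hAX).trans inf_normalizer_le_normalizer_inf
  have hP₀odd : Odd (Nat.card P₀) := hP₁odd.of_dvd_nat (card_dvd_of_le inf_le_left)
  obtain ⟨r₀, hr₀, hr₀1, hgood₀⟩ : ∃ r₀ ∈ R, r₀ ≠ 1 ∧ good r₀ := by
    by_contra hall
    push Not at hall
    obtain ⟨s, hs, s', hs', hs1, hs'1, hne⟩ := F.exists_two
    have hsub : ∀ w ∈ R, w ≠ 1 → P₀ ⊓ centralizer {w} ≤ centralizer (R : Set G) := fun w hw hw1 t ht =>
      by_contra fun hn => hall w hw hw1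
        ⟨t, ht.1, (mem_centralizer_singleton_iff.1 ht.2).symm, hn⟩
    exact hP₀R (le_of_four (F.sq s hs) (F.sq s' hs') (F.R_comm hs hs') hs1 hs'1 hne hP₀odd
      (hP₀A (mem_sup_left hs)) (hP₀A (mem_sup_left hs')) (hsub s hs hs1) (hsub s' hs' hs'1)
      (hsub _ (mul_mem hs hs') fun e => hne (by
        rw [mul_eq_one_iff_eq_inv.1 e, F.R_inv hs'])))
  have hgood : good r := by
    by_cases hr1 : r = 1
    · obtain ⟨t, ht, -, htR⟩ := hgood₀
      exact ⟨t, ht, by rw [hr1]; exact Commute.one_left t, htR⟩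
    obtain ⟨t, ht, hr₀t, htR⟩ := hgood₀
    obtain ⟨b, hb, hba⟩ := F.exists_second
    obtain ⟨g, hg, hga, hgr⟩ := exists_line_conj h F.bad.1 hb hba (F.mem_dat hr₀ hr₀1) (F.comm r₀ hr₀)
      (F.mem_dat hr hr1) (F.comm r hr)
    obtain ⟨m, hm, hmR, hmr⟩ := F.exists_normalizer_conj h (H := stabilizer G a ⊓ centralizer {x})
      inf_le_left (le_inf F.le_stabilizer F.R_le_centralizer)
      (g := g) ⟨mem_stabilizer_iff.2 hga, coreOf_le D _ hg⟩ (B := {r₀})
      (Set.singleton_subset_iff.2 hr₀) (by rintro _ rfl; rwa [hgr])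
    have hmr' : m * r₀ * m⁻¹ = r := (hmr r₀ rfl).trans hgr
    obtain ⟨hma, hmx⟩ := Subgroup.mem_inf.1 hm
    have hxm : Commute x m := (mem_centralizer_singleton_iff.1 hmx).symm
    set U₁ := P₀.map (MulAut.conj m).toMonoidHom with hU₁
    have hU₁Y : U₁ ≤ (lineKer D Ω x) := by
      rintro _ ⟨y, hy, rfl⟩
      exact conj_mem_lineKer h hxm (hP₁Y hy.1)
    have hU₁A : A ≤ normalizer (U₁ : Set G) := by
      intro g hg
      have hgm : m⁻¹ * g * m ∈ A := by
        have hle : A ≤ A.comap (MulAut.conj m⁻¹).toMonoidHom := by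
          refine sup_le (fun s hs => mem_sup_left ?_) (zpowers_le.2 (mem_sup_right ?_))
          · exact (mem_normalizer_iff.1 (inv_mem hmR) s).1 hs
          · show m⁻¹ * x * m⁻¹⁻¹ ∈ zpowers x
            rw [inv_inv, mul_assoc, hxm.eq, inv_mul_cancel_left]
            exact mem_zpowers x
        have h1 : m⁻¹ * g * m⁻¹⁻¹ ∈ A := hle hg
        rwa [inv_inv] at h1
      refine Coprime.mem_normalizer_of_conj_map_le ?_
      rintro _ ⟨y, hy, rfl⟩
      refine ⟨(m⁻¹ * g * m) * y * (m⁻¹ * g * m)⁻¹, (mem_normalizer_iff.1 (hP₀A hgm) y).1 hy, ?_⟩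
      simp only [MulEquiv.coe_toMonoidHom, MulAut.conj_apply]
      group
    obtain ⟨S', hS', hS'A⟩ := Coprime.exists_le_invariant_sylow hAY (F.full_coprime hYodd)
      (Or.inl F.full_solvable) hU₁Y (((S.isPGroup'.map (lineKer D Ω x).subtype).to_le inf_le_left).map _) hU₁A
    obtain ⟨n, hn, hnS⟩ := Coprime.exists_centralizer_conj_sylow hAY (F.full_coprime hYodd)
      (Or.inl F.full_solvable) S' S hS'A hS
    have hnR : (n : G) ∈ centralizer (R : Set G) :=
      centralizer_le (le_sup_left : R ≤ R ⊔ zpowers x) hn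
    have hna : (n : G) ∈ stabilizer G a := F.lineKer_le_stabilizer h n.2
    refine ⟨(n : G) * (m * t * m⁻¹) * (n : G)⁻¹, Subgroup.mem_inf.2 ⟨?_, ?_⟩, ?_, fun hR => htR ?_⟩
    · rw [hP₁, ← hnS, Coprime.map_smul_sylow]
      exact ⟨_, hS' ⟨t, ht, rfl⟩, rfl⟩
    · exact conj_mem_oddIn hna (conj_mem_oddIn hma ht.2)
    · have h1 : Commute (m * r₀ * m⁻¹) (m * t * m⁻¹) := (Commute.conj_iff m).2 hr₀t
      rw [hmr'] at h1
      have h2 := (Commute.conj_iff (n : G)).2 h1
      rwa [show (n : G) * r * (n : G)⁻¹ = r by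
        rw [← mem_centralizer_iff.1 hnR r hr, mul_inv_cancel_right]] at h2
    · refine mem_centralizer_iff.2 fun s hs => ?_
      have h1 : Commute (m * s * m⁻¹) ((n : G) * (m * t * m⁻¹) * (n : G)⁻¹) :=
        mem_centralizer_iff.1 hR _ ((mem_normalizer_iff.1 hmR s).1 hs)
      have h2 : (n : G) * (m * s * m⁻¹) * (n : G)⁻¹ = m * s * m⁻¹ := by
        rw [← mem_centralizer_iff.1 hnR _ ((mem_normalizer_iff.1 hmR s).1 hs), mul_inv_cancel_right]
      rw [← h2] at h1
      exact ((Commute.conj_iff m).1 ((Commute.conj_iff (n : G)).1 h1)).eq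
  -- `p` divides the kernel of the line of `x * r`
  obtain ⟨t, ht, hrt, htR⟩ := hgood
  obtain ⟨s, hs, hst⟩ : ∃ s ∈ R, ¬ Commute s t := by
    by_contra hall
    push Not at hall
    exact htR (mem_centralizer_iff.2 fun s hs => (hall s hs).eq)
  have hxrt : Commute (x * r) t := (commute_of_lineKer (hP₁Y ht.1)).mul_left hrt
  have hck := (F.mul_right hr).comm_mem_lineKer h hLC hcomm ht.2 hxrt hs
  have hc1 : t * s * t⁻¹ * s⁻¹ ≠ 1 := fun e => hst (by
    have := mul_inv_eq_iff_eq_mul.1 (mul_inv_eq_one.1 e)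
    exact this.symm)
  have hcP : t * s * t⁻¹ * s⁻¹ ∈ P₁ :=
    le_normalizer_iff_commutator_le_left.1 hRP₁ (commutator_mem_commutator ht.1 hs)
  have hp : p ∣ Nat.card (lineKer D Ω (x * r)) := by
    obtain ⟨i, hi⟩ := (S.isPGroup'.map (lineKer D Ω x).subtype).exists_card_eq
    obtain ⟨j, hj, hjo⟩ := (Nat.dvd_prime_pow (Fact.out : p.Prime)).1
      (hi ▸ Subgroup.orderOf_dvd_natCard P₁ hcP)
    rcases j with _ | j
    · exact absurd (orderOf_eq_one_iff.1 (hjo.trans (pow_zero p))) hc1
    · exact ((dvd_pow_self p (Nat.succ_ne_zero j)).trans (dvd_of_eq hjo.symm)).trans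
        (Subgroup.orderOf_dvd_natCard _ hck)
  have hle : P₁ ≤ fixingSubgroup G {c : Ω | (x * r) • c = c} := by
    refine hsup.ge.trans (sup_le (hcommX.trans fun y hy => ?_) hcentR)
    refine (mem_fixingSubgroup_iff G).2 fun d hd => ?_
    refine (F.mul_right hr).fix_of_dvd_lineKer h hsplit hcomm hp (U₀ := P₀) inf_le_right
      ((S.isPGroup'.map (lineKer D Ω x).subtype).to_le inf_le_left) (sup_le (le_sup_left.trans hP₀A) ?_) hy hd
    exact zpowers_le.2 (mul_mem (hP₀A (mem_sup_right (mem_zpowers x))) (hP₀A (mem_sup_left hr)))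
  exact (mem_fixingSubgroup_iff G).1 (hle hk) c hc

/-- The line kernel fixes the fixed points of every `x * r`. -/
theorem lineKer_fix {r : G} (hr : r ∈ R) {k : G} (hk : k ∈ lineKer D Ω x) {c : Ω}
    (hc : (x * r) • c = c) : k • c = c := by
  classical
  set Y := lineKer D Ω x with hY
  set K := Y ⊓ fixingSubgroup G {c : Ω | (x * r) • c = c} with hK
  have hYodd : Odd (Nat.card Y) := F.odd_lineKer h (hcomm x F.bad F.exists_pair)
  have hAY : R ⊔ zpowers x ≤ normalizer (Y : Set G) := fun g hg =>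
    Coprime.mem_normalizer_of_conj_map_le fun t ht => conj_mem_lineKer h
      (mem_centralizer_singleton_iff.1 ((sup_le F.R_le_centralizer
        (zpowers_le.2 (mem_centralizer_singleton_iff.2 rfl)) : R ⊔ zpowers x ≤ centralizer {x}) hg)).symm ht
  have heq : K = Y := eq_of_le_of_card_ge inf_le_left (Nat.le_of_dvd Nat.card_pos (by
    refine (Nat.factorization_le_iff_dvd Nat.card_pos.ne' Nat.card_pos.ne').1 fun q => ?_
    by_cases hq : q.Prime
    · haveI := Fact.mk hq
      obtain ⟨S, hS⟩ := Coprime.exists_invariant_sylow hAY (F.full_coprime hYodd)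
        (Or.inl F.full_solvable) q
      refine (hq.pow_dvd_iff_le_factorization Nat.card_pos.ne').1 ?_
      rw [← S.card_eq_multiplicity, ← Coprime.card_map_subtype]
      exact card_dvd_of_le (le_inf (map_subtype_le _) fun y hy => (mem_fixingSubgroup_iff G).2
        fun d hd => F.sylow_lineKer_fix h hLC hcomm hsplit S hS hr hy hd)
    · simp [Nat.factorization_eq_zero_of_not_prime _ hq]))
  rw [← heq] at hk
  exact (mem_fix_iff.1 hk).2 c hc

/-- The line kernel is trivial. -/
theorem lineKer_eq_bot : lineKer D Ω x = ⊥ := by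
  set Y := lineKer D Ω x with hY
  refine (eq_bot_iff_forall _).2 fun k hk => FaithfulSMul.eq_of_smul_eq_smul (α := Ω) fun c => ?_
  rw [one_smul]
  by_cases hc : x • c = c
  · exact smul_eq_of_lineKer hk hc
  obtain ⟨f, p, hf, hxf, hxp, hfc⟩ := exists_middle_fix h F.bad.1 hc
  have hpts := ptsOf_centralizer h F.bad.1
  obtain ⟨g, hg, rfl⟩ := exists_core_move h (H := centralizer {x}) (c := a) (c' := p)
    (hpts ▸ F.fix) (hpts ▸ hxp)
  have hxg : Commute x g := (mem_centralizer_singleton_iff.1 (coreOf_le D _ hg)).symm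
  -- the member at `a`
  set f' := g⁻¹ * f * g with hf'
  have hf'a : f' ∈ dat D a := by
    have := h.toOnePoint.conj_mem_dat g⁻¹ hf
    rwa [inv_smul_smul, inv_inv] at this
  have hxf' : Commute x f' := (hxg.inv_right.mul_right hxf).mul_right hxg
  obtain ⟨t, ht, r, hr, e⟩ := F.exists_lineKer_mul h (hcomm x F.bad F.exists_pair) hf'a.1 hxf' hf'a.2
  have hr1 : r ≠ 1 := fun e1 => by
    have h2 := (F.odd_lineKer h (hcomm x F.bad F.exists_pair)).of_dvd_nat (Subgroup.orderOf_dvd_natCard _ ht)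
    rw [← show f' = t by rw [e, e1, mul_one], h.orderOf_eq f' hf'a.1] at h2
    exact absurd h2 (by decide)
  have hrf : r * f' ∈ Y := by
    rw [e, show r * (t * r) = r * t * r⁻¹ * (r * r) by group, F.sq r hr, mul_one]
    exact conj_mem_lineKer h (F.comm r hr) ht
  obtain ⟨w, hw, hwr⟩ := Dihedral.exists_conj_of_odd (h.orderOf_eq r (F.mem_dat hr hr1).1)
    (h.orderOf_eq f' hf'a.1)
    ((F.odd_lineKer h (hcomm x F.bad F.exists_pair)).of_dvd_nat (Subgroup.orderOf_dvd_natCard _ hrf))
  have hwY : w ∈ Y := zpowers_le.2 hrf hw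
  have hxw : Commute x w := commute_of_lineKer hwY
  have hkey : (g * w) * (x * r) * (g * w)⁻¹ = x * f := by
    calc (g * w) * (x * r) * (g * w)⁻¹ = g * (w * x * w⁻¹ * (w * r * w⁻¹)) * g⁻¹ := by group
      _ = g * (x * f') * g⁻¹ := by rw [hwr, ← hxw.eq, mul_inv_cancel_right]
      _ = g * x * g⁻¹ * (g * f' * g⁻¹) := by group
      _ = x * f := by rw [← hxg.eq, mul_inv_cancel_right, hf']; group
  have hk' : (g * w)⁻¹ * k * (g * w) ∈ Y := by
    have := conj_mem_lineKer h (hxg.mul_right hxw).inv_right hk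
    rwa [inv_inv] at this
  have h1 := F.lineKer_fix h hLC hcomm hsplit hr hk' (c := (g * w)⁻¹ • c) (by
    rw [← hkey, mul_smul, mul_smul, ← eq_inv_smul_iff] at hfc
    exact hfc)
  rwa [mul_smul, mul_smul, smul_inv_smul, inv_smul_eq_iff, smul_inv_smul] at h1

/-- The odd core of the stabiliser centralises `R`. -/
theorem core_le_centralizer : oddIn (stabilizer G a) ≤ centralizer (R : Set G) := by
  classical
  set X := oddIn (stabilizer G a) with hX
  have hbadc : ∀ r ∈ R, X ⊓ centralizer {x * r} ≤ centralizer (R : Set G) := by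
    intro r hr k hk
    refine mem_centralizer_iff.2 fun s hs => ?_
    have h1 := (F.mul_right hr).comm_mem_lineKer h hLC hcomm hk.1
      (mem_centralizer_singleton_iff.1 hk.2).symm hs
    rw [(F.mul_right hr).lineKer_eq_bot h hLC hcomm hsplit, mem_bot] at h1
    exact (mul_inv_eq_iff_eq_mul.1 (mul_inv_eq_one.1 h1)).symm
  suffices hall : ∀ B : Subgroup G, B ≤ R → X ⊓ centralizer (B : Set G) ≤ centralizer (R : Set G) from
    fun k hk => hall ⊥ bot_le ⟨hk, mem_centralizer_iff.2 fun y hy => by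
      rw [show y = 1 from mem_bot.1 hy, one_mul, mul_one]⟩
  intro B
  induction B using WellFoundedGT.induction with
  | _ B ih =>
    intro hB
    by_cases hRB : R ≤ B
    · exact inf_le_right.trans (centralizer_le hRB)
    obtain ⟨s, hs, hsB⟩ := SetLike.not_le_iff_exists.1 hRB
    have hs1 : s ≠ 1 := fun e => hsB (e ▸ one_mem B)
    have hBC : ∀ w : G, (∀ b ∈ B, Commute w b) → w ∈ stabilizer G a →
        w ∈ normalizer ((X ⊓ centralizer (B : Set G) : Subgroup G) : Set G) := fun w hw hwa =>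
      Coprime.mem_normalizer_of_conj_map_le fun k hk => by
        have hwB : w ∈ centralizer (B : Set G) := mem_centralizer_iff.2 fun b hb => (hw b hb).eq.symm
        exact Subgroup.mem_inf.2 ⟨conj_mem_oddIn hwa (Subgroup.mem_inf.1 hk).1,
          mul_mem (mul_mem hwB (Subgroup.mem_inf.1 hk).2) (inv_mem hwB)⟩
    refine le_of_four (x := x) (s := s) (Dihedral.mul_self F.bad.1) (F.sq s hs) (F.comm s hs)
      (Dihedral.ne_one F.bad.1) hs1 (fun e => h.notMem_of_bad F.bad (e ▸ (F.mem_dat hs hs1).1))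
      ((odd_card_oddIn _).of_dvd_nat (card_dvd_of_le inf_le_left))
      (hBC x (fun b hb => F.comm b (hB hb)) (mem_stabilizer_iff.2 F.fix))
      (hBC s (fun b hb => F.R_comm hs (hB hb)) (F.le_stabilizer hs)) ?_ ?_ ?_
    · rintro k ⟨hk, hkx⟩
      exact hbadc 1 (one_mem R) ⟨hk.1, by rwa [mul_one]⟩
    · rintro k ⟨hk, hks⟩
      refine ih (B ⊔ zpowers s) (lt_of_le_of_ne le_sup_left fun e =>
        hsB (e ▸ mem_sup_right (mem_zpowers s))) (sup_le hB (zpowers_le.2 hs)) ⟨hk.1, ?_⟩
      refine mem_centralizer_iff.2 fun y hy => ?_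
      have hle : B ⊔ zpowers s ≤ centralizer ({k} : Set G) :=
        sup_le (fun b hb => mem_centralizer_singleton_iff.2 (mem_centralizer_iff.1 hk.2 b hb))
          (zpowers_le.2 (mem_centralizer_singleton_iff.2 (mem_centralizer_singleton_iff.1 hks).symm))
      exact mem_centralizer_singleton_iff.1 (hle hy)
    · rintro k ⟨hk, hkxs⟩
      exact hbadc s hs ⟨hk.1, hkxs⟩

/-- The members at a point commute. -/
theorem pointAbelian : PointAbelian D Ω := by
  set X := oddIn (stabilizer G a) with hX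
  have hcent := F.core_le_centralizer h hLC hcomm hsplit
  have hnorm : ∀ g ∈ stabilizer G a, ∀ r ∈ R, g * r * g⁻¹ ∈ R := by
    intro g hg r hr
    obtain ⟨u, hu, r', hr', e⟩ := (Coprime.mem_sup_of_le_normalizer
      (fun s hs => le_normalizer_oddIn _ (F.le_stabilizer hs))).1 (F.conj_mem_core_sup h hLC hg hr)
    have hcomu : Commute r' u := mem_centralizer_iff.1 (hcent hu) r' hr'
    have h2 : g * r * g⁻¹ * (g * r * g⁻¹) = 1 := by
      rw [show g * r * g⁻¹ * (g * r * g⁻¹) = g * (r * r) * g⁻¹ by group, F.sq r hr]; group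
    rw [← e, hcomu.mul_mul_mul_comm, F.sq r' hr', mul_one] at h2
    have hu1 : u = 1 := mem_bot.1 (ZStar.mem_of_sq_mem (N := ⊥)
      ((odd_card_oddIn _).of_dvd_nat (Subgroup.orderOf_dvd_natCard _ hu)) (mem_bot.2 h2))
    rw [← e, hu1, one_mul]
    exact hr'
  have hin : ∀ d ∈ dat D a, d ∈ R := by
    intro d hd
    obtain ⟨k, hk, hkd⟩ := F.exists_conj_into h (H := stabilizer G a) le_rfl F.le_stabilizer hd.1
      (mem_stabilizer_iff.2 hd.2)
    have := hnorm k⁻¹ (inv_mem hk) _ hkd
    rwa [show k⁻¹ * (k * d * k⁻¹) * k⁻¹⁻¹ = d by group] at this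
  intro c d hd e he
  obtain ⟨g, rfl⟩ := OnePoint.exists_move h.toOnePoint h.covers a c
  have hback : ∀ y ∈ dat D (g • a), g⁻¹ * y * g ∈ R := fun y hy => hin _ (by
    have := h.toOnePoint.conj_mem_dat g⁻¹ hy
    rwa [inv_smul_smul, inv_inv] at this)
  have h1 := (Commute.conj_iff g).2 (F.R_comm (hback d hd) (hback e he))
  rwa [show g * (g⁻¹ * d * g) * g⁻¹ = d by group, show g * (g⁻¹ * e * g) * g⁻¹ = e by group] at h1

/-- A full bad involution with local control is impossible. -/
theorem false_of_localControl (hgen : Subgroup.closure D = ⊤) : False :=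
  h.noBad_of_pointAbelian hgen (F.pointAbelian h hLC hcomm hsplit) x F.bad

end FullData

end CfsgLib.LocalEven.OnePointFront
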