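import Cfsg.Agent.Lib.LocalEven.OnePointFront.LineKernelTools

/-!
# The chain in the odd core of a point stabiliser

Let `v` be a full bad involution at `a` and `p` a prime dividing the order of the kernel of its
line.  A maximal `p`-subgroup `V` fixing the fixed points of `v`, invariant under `R` and `v` and
normalised by members at all of these points, is a Sylow subgroup of the odd core of the
pointwise stabiliser of the points of its normaliser; so it contains a Sylow `p`-subgroup of the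
odd core `X` of the stabiliser of `a`, and every invariant `p`-subgroup of `X` fixes these points.
-/

set_option autoImplicit false
set_option linter.style.haveILetI false
set_option linter.unusedSectionVars false

namespace CfsgLib.LocalEven.OnePointFront

open MulAction Subgroup CfsgLib.LocalEven.TIEndgame CfsgLib.Involution

universe u

variable {G Ω : Type u} [Group G] [Finite G] [MulAction G Ω] {D : Set G} {a : Ω} {v : G}
  {R P : Subgroup G}

namespace FullData

/-- The group generated by `R` and `v`. -/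
theorem full_comm (F : FullData D a v R P) : IsMulCommutative ↥(R ⊔ zpowers v) := by
  have h1 : R ⊔ zpowers v ≤ centralizer ((R ⊔ zpowers v : Subgroup G) : Set G) := by
    have hR : R ≤ centralizer ((R : Set G) ∪ {v}) := fun r hr => mem_centralizer_iff.2 (by
      rintro y (hy | rfl)
      · exact (F.R_comm hy hr).eq
      · exact (F.comm r hr).eq)
    have hv : zpowers v ≤ centralizer ((R : Set G) ∪ {v}) := zpowers_le.2 (mem_centralizer_iff.2 (by
      rintro y (hy | rfl)
      · exact (F.comm y hy).eq.symm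
      · rfl))
    refine le_centralizer_iff.1 (sup_le ?_ (zpowers_le.2 ?_))
    · intro r hr
      refine mem_centralizer_iff.2 fun y hy => ?_
      exact (mem_centralizer_iff.1 (sup_le hR hv hy) r (Or.inl hr)).symm
    · refine mem_centralizer_iff.2 fun y hy => ?_
      exact (mem_centralizer_iff.1 (sup_le hR hv hy) v (Or.inr rfl)).symm
  exact ⟨⟨fun x y => Subtype.ext (mem_centralizer_iff.1 (h1 y.2) x x.2)⟩⟩

theorem full_two (F : FullData D a v R P) : IsPGroup 2 ↥(R ⊔ zpowers v) :=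
  F.top.1.to_le (sup_le F.le (zpowers_le.2 F.mem))

theorem full_coprime (F : FullData D a v R P) {K : Subgroup G} (hK : Odd (Nat.card K)) :
    (Nat.card ↥(R ⊔ zpowers v)).Coprime (Nat.card K) := by
  haveI : Fact (Nat.Prime 2) := ⟨Nat.prime_two⟩
  obtain ⟨i, hi⟩ := F.full_two.exists_card_eq
  rw [hi]
  exact Nat.Coprime.pow_left i (Nat.coprime_two_left.2 hK)

theorem full_solvable (F : FullData D a v R P) : Group.IsSolvable ↥(R ⊔ zpowers v) := by
  haveI := F.full_comm
  exact Group.isSolvable_of_comm fun x y => mul_comm' x y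

theorem exists_second (F : FullData D a v R P) : ∃ b : Ω, v • b = b ∧ b ≠ a := by
  obtain ⟨-, p₁, p₂, hp, h1, h2⟩ := F.bad
  by_cases e : p₁ = a
  · exact ⟨p₂, h2, fun e' => hp (e.trans e'.symm)⟩
  · exact ⟨p₁, h1, e⟩

theorem exists_two (F : FullData D a v R P) :
    ∃ r ∈ R, ∃ s ∈ R, r ≠ 1 ∧ s ≠ 1 ∧ r ≠ s := by
  classical
  have h4 := F.four
  haveI := Fintype.ofFinite ↥R
  rw [Nat.card_eq_fintype_card] at h4
  obtain ⟨r, s, t, hrs, hrt, hst⟩ := Fintype.two_lt_card_iff.1 (show 2 < Fintype.card ↥R by omega)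
  have key : ∀ r s : ↥R, r ≠ 1 → s ≠ 1 → r ≠ s →
      ∃ r ∈ R, ∃ s ∈ R, r ≠ 1 ∧ s ≠ 1 ∧ r ≠ s := fun r s h1 h2 h3 =>
    ⟨r, r.2, s, s.2, fun e => h1 (Subtype.ext e), fun e => h2 (Subtype.ext e),
      fun e => h3 (Subtype.ext e)⟩
  by_cases e : r = 1
  · exact key s t (fun e' => hrs (e.trans e'.symm)) (fun e' => hrt (e.trans e'.symm)) hst
  by_cases e2 : s = 1
  · exact key r t e (fun e' => hst (e2.trans e'.symm)) hrt
  · exact key r s e e2 hrs

/-- The splitting at `a` of a proper core containing `R`, with a second point. -/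
theorem splitAt (F : FullData D a v R P) (hsplit : SplitHyp D Ω) {H : Subgroup G}
    (hH : coreOf D H ≠ ⊤) (hRH : R ≤ H) {b : Ω} (hb : b ∈ ptsOf D Ω H) (hba : b ≠ a) :
    SplitAt D Ω H a := by
  obtain ⟨r, hr, s, hs, hr1, hs1, hrs⟩ := F.exists_two
  exact hsplit H hH a b hb hba r s (F.mem_dat hr hr1).1 (hRH hr) (F.mem_dat hr hr1).2
    (F.mem_dat hs hs1).1 (hRH hs) (F.mem_dat hs hs1).2 (F.R_comm hr hs) hrs

theorem R_le_centralizer (F : FullData D a v R P) : R ≤ centralizer {v} := fun r hr =>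
  mem_centralizer_singleton_iff.2 (F.comm r hr).eq.symm

theorem R_fix (F : FullData D a v R P) {r : G} (hr : r ∈ R) : r • a = a :=
  mem_stabilizer_iff.1 (F.le_stabilizer hr)

/-- A member at a point fixed by `v`, invariant Sylow subgroups and Frattini. -/
theorem exists_member_normalizer (h : ClosedSetting D Ω) {K : Subgroup G} {p : ℕ} [Fact p.Prime]
    (hK : Odd (Nat.card K)) (S : Sylow p K) {c : Ω} (hKc : ∀ k ∈ K, k • c = c) {d : G}
    (hd : d ∈ D) (hdc : d • c = c) (hdK : d ∈ normalizer (K : Set G)) :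
    ∃ d' ∈ D, d' • c = c ∧ d' ∈ normalizer (((S : Subgroup K).map K.subtype : Subgroup G) : Set G) := by
  haveI : Fact (Nat.Prime 2) := ⟨Nat.prime_two⟩
  obtain ⟨S₀, hS₀⟩ := Coprime.exists_invariant_sylow (A := zpowers d) (K := K) (zpowers_le.2 hdK)
    (by rw [Nat.card_zpowers, h.orderOf_eq d hd]; exact Nat.coprime_two_left.2 hK)
    (Or.inl (Coprime.isSolvable_zpowers d)) p
  obtain ⟨u, hu⟩ := MulAction.exists_smul_eq K S₀ S
  refine ⟨(u : G) * d * (u : G)⁻¹, h.conj_mem _ d hd, ?_, ?_⟩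
  · rw [mul_smul, mul_smul, inv_smul_eq_iff.2 (hKc u u.2).symm, hdc, hKc u u.2]
  · rw [← hu, Coprime.map_smul_sylow]
    refine Coprime.mem_normalizer_of_conj_map_le ?_
    rintro _ ⟨y, hy, rfl⟩
    refine ⟨d * y * d⁻¹, (mem_normalizer_iff.1 (hS₀ (mem_zpowers d)) y).1 hy, ?_⟩
    simp only [MulEquiv.coe_toMonoidHom, MulAut.conj_apply]
    group

end FullData

theorem coreOf_ne_top_of_normalizer [Finite Ω] [FaithfulSMul G Ω]
    (h : ClosedSetting D Ω) {V : Subgroup G} (hV : V ≠ ⊥) {a : Ω} (hVa : ∀ y ∈ V, y • a = a) :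
    coreOf D (normalizer (V : Set G)) ≠ ⊤ := by
  intro htop
  refine hV ((eq_bot_iff_forall _).2 fun y hy => FaithfulSMul.eq_of_smul_eq_smul (α := Ω) fun c => ?_)
  obtain ⟨g, rfl⟩ := OnePoint.exists_move h.toOnePoint h.covers a c
  have hg : g⁻¹ ∈ normalizer (V : Set G) := coreOf_le D _ (htop ▸ mem_top g⁻¹)
  have h1 := hVa _ ((mem_normalizer_iff.1 hg y).1 hy)
  rw [mul_smul, mul_smul, inv_inv, inv_smul_eq_iff] at h1
  rw [h1, one_smul]

namespace FullData

variable [Finite Ω] [FaithfulSMul G Ω]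

/-- If `p` divides the kernel of the line of `v`, the invariant `p`-subgroups of the odd core of
the stabiliser of `a` fix the fixed points of `v`. -/
theorem fix_of_dvd_lineKer (F : FullData D a v R P) (h : ClosedSetting D Ω)
    (hsplit : SplitHyp D Ω) (hcomm : LineComm D Ω) {p : ℕ} [Fact p.Prime]
    (hp : p ∣ Nat.card (lineKer D Ω v)) {U₀ : Subgroup G} (hU₀ : U₀ ≤ oddIn (stabilizer G a))
    (hU₀p : IsPGroup p U₀) (hU₀A : R ⊔ zpowers v ≤ normalizer (U₀ : Set G)) {u : G} (hu : u ∈ U₀)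
    {c : Ω} (hc : v • c = c) : u • c = c := by
  classical
  set A : Subgroup G := R ⊔ zpowers v with hA
  set Y := lineKer D Ω v with hY
  set X := oddIn (stabilizer G a) with hX
  have hYodd : Odd (Nat.card Y) := F.odd_lineKer h (hcomm v F.bad F.exists_pair)
  have hAv : A ≤ centralizer {v} :=
    sup_le F.R_le_centralizer (zpowers_le.2 (mem_centralizer_singleton_iff.2 rfl))
  have hAY : A ≤ normalizer (Y : Set G) := fun g hg => Coprime.mem_normalizer_of_conj_map_le
    fun k hk => conj_mem_lineKer h (mem_centralizer_singleton_iff.1 (hAv hg)).symm hk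
  have hAa : A ≤ stabilizer G a :=
    sup_le F.le_stabilizer (zpowers_le.2 (mem_stabilizer_iff.2 F.fix))
  have hAs := F.full_solvable
  have hRA : R ≤ A := le_sup_left
  let good : Subgroup G → Prop := fun V => IsPGroup p V ∧ V ≠ ⊥ ∧
    (∀ y ∈ V, ∀ c : Ω, v • c = c → y • c = c) ∧ A ≤ normalizer (V : Set G) ∧
    ∀ c : Ω, v • c = c → ∃ d ∈ D, d • c = c ∧ d ∈ normalizer (V : Set G)
  obtain ⟨S₁, hS₁⟩ := Coprime.exists_invariant_sylow hAY (F.full_coprime hYodd) (Or.inl hAs) p
  have hgood : good ((S₁ : Subgroup Y).map Y.subtype) := by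
    refine ⟨S₁.isPGroup'.map _, fun e => ?_, fun y hy c hc => smul_eq_of_lineKer (map_subtype_le _ hy) hc,
      hS₁, fun c hc => ?_⟩
    · have h1 : Nat.card ↥((S₁ : Subgroup Y).map Y.subtype) = p ^ (Nat.card Y).factorization p := by
        rw [Coprime.card_map_subtype, S₁.card_eq_multiplicity]
      rw [e, card_bot] at h1
      have h2 := (Fact.out : p.Prime).factorization_pos_of_dvd Nat.card_pos.ne' hp
      exact (Nat.one_lt_pow h2.ne' (Fact.out : p.Prime).one_lt).ne h1
    · obtain ⟨d, hd, hvd⟩ := OnePoint.exists_dat_commute (D := D) h.covers F.bad.1 hc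
      exact exists_member_normalizer h hYodd S₁ (fun k hk => smul_eq_of_lineKer hk hc) hd.1 hd.2
        (Coprime.mem_normalizer_of_conj_map_le fun k hk => conj_mem_lineKer h hvd hk)
  obtain ⟨V, -, hV⟩ := Finite.exists_le_maximal (p := good) hgood
  obtain ⟨hVp, hV1, hVfix, hVA, hVmem⟩ := hV.prop
  set N := normalizer (V : Set G) with hN
  have hRN : R ≤ N := hRA.trans hVA
  have hpts : ∀ c : Ω, v • c = c → c ∈ ptsOf D Ω N := fun c hc => by
    obtain ⟨d, hd, hdc, hdN⟩ := hVmem c hc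
    exact ⟨d, hd, hdN, hdc⟩
  have haN : a ∈ ptsOf D Ω N := hpts a F.fix
  have hcore : coreOf D N ≠ ⊤ :=
    coreOf_ne_top_of_normalizer h hV1 (fun y hy => hVfix y hy a F.fix)
  set K := N ⊓ fixingSubgroup G (ptsOf D Ω N) with hKdef
  have hVK : V ≤ K := fun y hy => mem_fix_iff.2 ⟨Subgroup.le_normalizer hy, fun c hc => by
    obtain ⟨g, hg, rfl⟩ := exists_core_move h haN hc
    have h1 := hVfix _ ((mem_normalizer_iff.1 (coreOf_le D _ (inv_mem hg)) y).1 hy) a F.fix
    rwa [mul_smul, mul_smul, inv_inv, inv_smul_eq_iff] at h1⟩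
  have hNK : ∀ g ∈ N, ∀ k ∈ K, g * k * g⁻¹ ∈ K := fun g hg k hk => by
    refine mem_fix_iff.2 ⟨mul_mem (mul_mem hg (mem_fix_iff.1 hk).1) (inv_mem hg), fun c hc => ?_⟩
    rw [mul_smul, mul_smul, (mem_fix_iff.1 hk).2 _ (smul_mem_ptsOf h (inv_mem hg) hc), smul_inv_smul]
  have hNK' : N ≤ normalizer (K : Set G) := fun g hg =>
    Coprime.mem_normalizer_of_conj_map_le (hNK g hg)
  set U := oddIn K with hU
  have hUodd : Odd (Nat.card U) := odd_card_oddIn K
  have hNU : N ≤ normalizer (U : Set G) := fun g hg => Coprime.mem_normalizer_of_conj_map_le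
    fun k hk => conj_oddIn_mem (fun c => ((mem_normalizer_iff.1 (hNK' hg)) c).symm) hk
  have hp2 : p ≠ 2 := fun e => by
    subst e
    exact Nat.not_even_iff_odd.2 hYodd (even_iff_two_dvd.2 hp)
  have hVodd : Odd (Nat.card V) := by
    obtain ⟨i, hi⟩ := hVp.exists_card_eq
    rw [hi]
    exact ((Fact.out : p.Prime).odd_of_ne_two hp2).pow
  have hVU : V ≤ U := le_oddIn hVK (fun g hg => (mem_fix_iff.1 hg).1) hVodd
  -- the odd core of the stabiliser of `a` in `N` fixes the points
  have hXN : X ⊓ N ≤ U := by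
    have hXa : X ≤ stabilizer G a := oddIn_le _
    have hXK : X ⊓ N ≤ K := by
      intro j hj
      obtain ⟨b, hb, hba⟩ := F.exists_second
      refine mem_fix_iff.2 ⟨hj.2, fix_ptsOf_of_split h (F.splitAt hsplit hcore hRN (hpts b hb) hba)
        hj.2 (mem_stabilizer_iff.1 (hXa hj.1))
        ((odd_card_oddIn _).of_dvd_nat (Subgroup.orderOf_dvd_natCard _ hj.1)) fun q hq hqa _ =>
        ⟨q, hq, fun _ _ => rfl, hqa, ?_⟩⟩
      refine (odd_card_oddIn (stabilizer G a)).of_dvd_nat (Subgroup.orderOf_dvd_natCard _ ?_)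
      show j * q * j⁻¹ * q⁻¹ ∈ X
      rw [show j * q * j⁻¹ * q⁻¹ = j * (q * j⁻¹ * q⁻¹) by group]
      exact mul_mem hj.1 (conj_mem_oddIn (mem_stabilizer_iff.2 hqa) (inv_mem hj.1))
    refine le_oddIn hXK (fun g hg => ?_) ((odd_card_oddIn _).of_dvd_nat (card_dvd_of_le inf_le_left))
    have hga : g ∈ stabilizer G a := mem_stabilizer_iff.2 ((mem_fix_iff.1 hg).2 a haN)
    refine Coprime.mem_normalizer_of_conj_map_le fun k hk => Subgroup.mem_inf.2
      ⟨conj_mem_oddIn hga hk.1, ?_⟩
    exact mul_mem (mul_mem (mem_fix_iff.1 hg).1 (Subgroup.mem_inf.1 hk).2)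
      (inv_mem (mem_fix_iff.1 hg).1)
  -- `V` is a Sylow subgroup of `U`
  obtain ⟨S, hVS, hSA⟩ := Coprime.exists_le_invariant_sylow (hVA.trans hNU) (F.full_coprime hUodd)
    (Or.inl hAs) hVU hVp hVA
  have hUfix : ∀ k ∈ U, ∀ c : Ω, v • c = c → k • c = c := fun k hk c hc =>
    (mem_fix_iff.1 (oddIn_le K hk)).2 c (hpts c hc)
  have hSgood : good ((S : Subgroup U).map U.subtype) := by
    refine ⟨S.isPGroup'.map _, fun e => hV1 (le_bot_iff.1 (e ▸ hVS)),
      fun y hy c hc => hUfix y (map_subtype_le _ hy) c hc, hSA, fun c hc => ?_⟩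
    obtain ⟨d, hd, hdc, hdN⟩ := hVmem c hc
    exact exists_member_normalizer h hUodd S (fun k hk => hUfix k hk c hc) hd hdc (hNU hdN)
  have hSV : (S : Subgroup U).map U.subtype = V := le_antisymm (hV.le_of_ge hSgood hVS) hVS
  have hSylU : ∀ T : Subgroup G, IsPGroup p T → V ≤ T → T ≤ U → T ≤ V := by
    intro T hT hVT hTU
    obtain ⟨S', hS'⟩ := (hT.of_equiv (subgroupOfEquivOfLe hTU).symm).exists_le_sylow
    have h1 : Nat.card T ≤ Nat.card V := by
      rw [← hSV, Coprime.card_map_subtype, S.card_eq_multiplicity, ← S'.card_eq_multiplicity,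
        ← Nat.card_congr (subgroupOfEquivOfLe hTU).toEquiv]
      exact card_le_of_le hS'
    exact (eq_of_le_of_card_ge hVT h1).ge
  -- `V` is a Sylow subgroup of `X ⊔ V`
  have hXn : ∀ g ∈ stabilizer G a, g ∈ normalizer (X : Set G) := fun g hg =>
    le_normalizer_oddIn _ hg
  have hVa : V ≤ stabilizer G a := fun y hy => mem_stabilizer_iff.2 (hVfix y hy a F.fix)
  have hVX : V ≤ normalizer (X : Set G) := fun y hy => hXn y (hVa hy)
  set W := X ⊔ V with hW
  obtain ⟨T, hT⟩ := (hVp.of_equiv (subgroupOfEquivOfLe (le_sup_right : V ≤ W)).symm).exists_le_sylow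
  have hVT : V ≤ (T : Subgroup W).map W.subtype := fun y hy =>
    ⟨⟨y, le_sup_right (a := X) hy⟩, hT (mem_subgroupOf.2 hy), rfl⟩
  have hTV : (T : Subgroup W).map W.subtype = V := by
    by_contra hne
    have hlt := Coprime.lt_normalizer_inf_of_lt (T.isPGroup'.map W.subtype)
      (lt_of_le_of_ne hVT (Ne.symm hne))
    obtain ⟨y, hy, hyV⟩ := SetLike.exists_of_lt hlt
    obtain ⟨hyT, hyN⟩ := Subgroup.mem_inf.1 hy
    obtain ⟨j, hj, w, hw, rfl⟩ :=
      (Coprime.mem_sup_of_le_normalizer hVX).1 (map_subtype_le _ hyT)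
    have hjT : j ∈ (T : Subgroup W).map W.subtype := by
      have := mul_mem hyT (inv_mem (hVT hw))
      rwa [mul_inv_cancel_right] at this
    have hjN : j ∈ N := by
      have := mul_mem hyN (inv_mem (Subgroup.le_normalizer hw))
      rwa [mul_inv_cancel_right] at this
    have hjU : j ∈ U := hXN ⟨hj, hjN⟩
    have := hSylU ((T : Subgroup W).map W.subtype ⊓ U) ((T.isPGroup'.map _).to_le inf_le_left)
      (le_inf hVT hVU) inf_le_right ⟨hjT, hjU⟩
    exact hyV (mul_mem this hw)
  -- so it contains a Sylow subgroup of `X`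
  have hXW : X ≤ W := le_sup_left
  haveI hXnorm : (X.subgroupOf W).Normal := (normal_subgroupOf_iff_le_normalizer hXW).2
    (sup_le Subgroup.le_normalizer hVX)
  have hcard : Nat.card ↥(V ⊓ X) = p ^ (Nat.card X).factorization p := by
    have h1 := Coprime.card_sylow_inf_normal T (X.subgroupOf W)
    rw [Nat.card_congr (subgroupOfEquivOfLe hXW).toEquiv] at h1
    rw [← Coprime.card_map_subtype, Subgroup.map_inf _ _ _ W.subtype_injective,
      subgroupOf_map_subtype, inf_eq_left.2 hXW, hTV] at h1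
    exact h1
  obtain ⟨S₀, hS₀⟩ := Coprime.exists_sylow_map_eq (K := X) inf_le_right hcard
  have hAX : A ≤ normalizer (X : Set G) := fun g hg => hXn g (hAa hg)
  have hS₀A : A ≤ normalizer (((S₀ : Subgroup X).map X.subtype : Subgroup G) : Set G) := by
    rw [hS₀]
    exact (le_inf hVA hAX).trans inf_normalizer_le_normalizer_inf
  -- every invariant `p`-subgroup is conjugate into it under `A`
  obtain ⟨S', hUS', hS'A⟩ := Coprime.exists_le_invariant_sylow hAX (F.full_coprime (odd_card_oddIn _))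
    (Or.inl hAs) hU₀ hU₀p hU₀A
  obtain ⟨g, hg, hgS⟩ := Coprime.exists_centralizer_conj_sylow hAX
    (F.full_coprime (odd_card_oddIn _)) (Or.inl hAs) S₀ S' hS₀A hS'A
  have h1 := hUS' hu
  rw [← hgS, Coprime.map_smul_sylow, hS₀] at h1
  obtain ⟨y, hy, rfl⟩ := h1
  have hgv : Commute v (g : G) :=
    mem_centralizer_iff.1 hg v (le_sup_right (a := R) (mem_zpowers v))
  have hc' : v • (g : G)⁻¹ • c = (g : G)⁻¹ • c := by
    rw [← mul_smul, hgv.inv_right.eq, mul_smul, hc]
  show ((g : G) * y * (g : G)⁻¹) • c = c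
  rw [mul_smul, mul_smul, hVfix y hy.1 _ hc', smul_inv_smul]

end FullData

end CfsgLib.LocalEven.OnePointFront
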