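import Cfsg.Agent.Lib.LocalEven.OnePointFront.FullCase
import Cfsg.Agent.Lib.LocalEven.OnePointFront.Reductions.Setting

/-!
# No bad involutions in closed settings with good point groups

The induction, given the contradiction from a configuration where all bad involutions move
members: `FullCase` excludes the others.
-/

set_option autoImplicit false
set_option linter.style.haveILetI false

namespace CfsgLib.LocalEven.OnePointFront

open MulAction CfsgLib.LocalEven.TIEndgame

universe u

/-- The induction step from the case where all bad involutions move members: by `FrontMin.noFull`
there are no others. -/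
theorem frontStep_of
    (hnonfull : ∀ (G : Type u) [Group G] [Finite G] (Ω : Type u) [Finite Ω] [MulAction G Ω]
      [FaithfulSMul G Ω] (D : Set G), FrontMin G Ω D → NoFull D Ω → NoBad G Ω) :
    FrontStep.{u} := fun G _ _ Ω _ _ _ D h => hnonfull G Ω D h h.noFull

/-- Closed settings with good point groups have no bad involution, given the induction step. -/
theorem goodNoBad_of_step (hstep : FrontStep.{u}) : GoodNoBad.{u} := by
  intro G _ _ Ω _ _ _ D K hD hK hgen
  exact frontBelow_of_step hstep (Nat.card G + 1) G Ω D (Nat.lt_succ_self _) hD
    ⟨K, hK.le, hK.conj, hK.invol⟩ hgen

end CfsgLib.LocalEven.OnePointFront
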