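import Cfsg.Agent.Lib.LocalEven.TIEndgame.Setup

/-!
# Involutions with one fixed point, closed in 2-groups

`D` is a set of involutions as in `OnePoint`, covering, and such that every involution generated by
members lying in one 2-group is again a member.  A bad involution is full if it centralises all the
members in a maximal 2-subgroup of the stabiliser of one of its points.
-/

set_option autoImplicit false

namespace CfsgLib.LocalEven.OnePointFront

open MulAction CfsgLib.LocalEven.TIEndgame

universe u v

variable {G : Type u} {Ω : Type v} [Group G] [MulAction G Ω]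

/-- The standing hypothesis. -/
structure ClosedSetting (D : Set G) (Ω : Type v) [MulAction G Ω] : Prop extends OnePoint D Ω where
  covers : Covers D Ω
  closed : ∀ P : Subgroup G, IsPGroup 2 P → ∀ z ∈ Subgroup.closure (D ∩ (P : Set G)),
    orderOf z = 2 → z ∈ D

/-- The group generated by the members in `H`. -/
def coreOf (D : Set G) (H : Subgroup G) : Subgroup G := Subgroup.closure (D ∩ (H : Set G))

/-- The points of the members in `H`. -/
def ptsOf (D : Set G) (Ω : Type v) [MulAction G Ω] (H : Subgroup G) : Set Ω :=
  {c | ∃ d ∈ D, d ∈ H ∧ d • c = c}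

/-- `P` is a maximal 2-subgroup of the stabiliser of `a`. -/
def IsTopTwo (P : Subgroup G) (a : Ω) : Prop :=
  IsPGroup 2 P ∧ P ≤ stabilizer G a ∧
    ∀ P' : Subgroup G, IsPGroup 2 P' → P' ≤ stabilizer G a → P ≤ P' → P' = P

/-- A bad involution centralising all the members of a maximal 2-subgroup at one of its points. -/
def IsFullBad (D : Set G) (Ω : Type v) [MulAction G Ω] (x : G) : Prop :=
  IsBad Ω x ∧ ∃ (a : Ω) (P : Subgroup G), IsTopTwo P a ∧ x ∈ P ∧ ∀ d ∈ D, d ∈ P → Commute x d

/-- The conclusion aimed at: no bad involution is full. -/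
def NoFull (D : Set G) (Ω : Type v) [MulAction G Ω] : Prop := ∀ x : G, ¬ IsFullBad D Ω x

/-- Each point has a subgroup of its stabiliser, equivariantly, whose involutions are the members
at the point. -/
def HasGood (D : Set G) (Ω : Type v) [MulAction G Ω] : Prop :=
  ∃ K : Ω → Subgroup G, (∀ a, K a ≤ stabilizer G a) ∧
    (∀ (g : G) (a : Ω), ∀ x ∈ K a, g * x * g⁻¹ ∈ K (g • a)) ∧
    ∀ (a : Ω) (x : G), orderOf x = 2 → (x ∈ K a ↔ x ∈ dat D a)

/-- The statement below a given order. -/
def FrontBelow (n : ℕ) : Prop :=
  ∀ (G : Type u) [Group G] [Finite G] (Ω : Type u) [Finite Ω] [MulAction G Ω] [FaithfulSMul G Ω]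
    (D : Set G), Nat.card G < n → ClosedSetting D Ω → HasGood D Ω → Subgroup.closure D = ⊤ →
      NoBad G Ω

/-- A least configuration with a bad involution. -/
structure FrontMin (G : Type u) (Ω : Type u) [Group G] [Finite G] [Finite Ω] [MulAction G Ω]
    [FaithfulSMul G Ω] (D : Set G) : Prop extends ClosedSetting D Ω where
  gen : Subgroup.closure D = ⊤
  good : HasGood D Ω
  below : FrontBelow.{u} (Nat.card G)

/-- Every least configuration has no bad involution. -/
def FrontStep : Prop :=
  ∀ (G : Type u) [Group G] [Finite G] (Ω : Type u) [Finite Ω] [MulAction G Ω] [FaithfulSMul G Ω]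
    (D : Set G), FrontMin G Ω D → NoBad G Ω

theorem frontBelow_of_step (hstep : FrontStep.{u}) (n : ℕ) : FrontBelow.{u} n := by
  induction n with
  | zero => intro G _ _ Ω _ _ _ D hn; exact absurd hn (Nat.not_lt_zero _)
  | succ n ih =>
    intro G _ _ Ω _ _ _ D hn hD hK hgen
    refine hstep G Ω D { toClosedSetting := hD, gen := hgen, good := hK, below := ?_ }
    intro G' _ _ Ω' _ _ _ D' hn'
    exact ih G' Ω' D' (lt_of_lt_of_le hn' (Nat.lt_succ_iff.1 hn))

end CfsgLib.LocalEven.OnePointFront
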